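import Cfsg.Agent.Lib.POmega.Simple
import Cfsg.Agent.Lib.Orth.NegOne

/-!
The three standard forms as quadratic forms with non-degenerate polar, and determinant of `Ω` elements.
-/

set_option autoImplicit false
set_option linter.unusedSectionVars false

namespace CfsgLib.POmega

open Matrix QuadraticMap CfsgLib.Orth

variable {F : Type*} [Field F]

/-- `x₀² + Σ x_i y_i` as a quadratic form -/
noncomputable def oddQ (m : ℕ) (F : Type*) [Field F] : QuadraticForm F (Unit ⊕ (Fin m ⊕ Fin m) → F) :=
  QuadraticMap.linMulLin (LinearMap.proj (R := F) (φ := fun _ => F) (Sum.inl ())) (LinearMap.proj (Sum.inl ())) +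
    ∑ i : Fin m, QuadraticMap.linMulLin (LinearMap.proj (R := F) (φ := fun _ => F) (Sum.inr (Sum.inl i)))
      (LinearMap.proj (Sum.inr (Sum.inr i)))

theorem oddQ_coe (m : ℕ) : ⇑(oddQ m F) = Cfsg.quadFormOdd m F := by
  funext v
  simp [oddQ, Cfsg.quadFormOdd, pow_two]

theorem polar_oddQ (m : ℕ) (x y : Unit ⊕ (Fin m ⊕ Fin m) → F) :
    polar (oddQ m F) x y = 2 * x (.inl ()) * y (.inl ()) +
      ∑ i, (x (.inr (.inl i)) * y (.inr (.inr i)) + x (.inr (.inr i)) * y (.inr (.inl i))) := by
  rw [QuadraticMap.polar, oddQ_coe]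
  simp only [Cfsg.quadFormOdd, Pi.add_apply, add_mul, mul_add, Finset.sum_add_distrib]
  rw [Finset.sum_congr rfl fun i _ => mul_comm (y (Sum.inr (Sum.inl i))) (x (Sum.inr (Sum.inr i)))]
  ring

theorem oddQ_nondegenerate (h2 : (2 : F) ≠ 0) (m : ℕ) : (oddQ m F).polarBilin.Nondegenerate := by
  have key : ∀ x, (∀ y, polar (oddQ m F) x y = 0) → x = 0 := fun x hx => funext fun j => by
    rcases j with i | i | i
    · have := hx (Pi.single (Sum.inl ()) 1)
      simpa [polar_oddQ, Pi.single_apply, h2] using this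
    · have := hx (Pi.single (Sum.inr (Sum.inr i)) 1)
      simpa [polar_oddQ, Pi.single_apply, Finset.sum_add_distrib] using this
    · have := hx (Pi.single (Sum.inr (Sum.inl i)) 1)
      simpa [polar_oddQ, Pi.single_apply, Finset.sum_add_distrib] using this
  exact ⟨key, fun y hy => key y fun x => by rw [polar_comm]; exact hy x⟩

theorem minusQ_nondegenerate_any [Fintype F] {m : ℕ} {a b : F}
    (hab : ∀ z₁ z₂ : F, z₁ ^ 2 + a * z₁ * z₂ + b * z₂ ^ 2 = 0 → z₁ = 0 ∧ z₂ = 0) :
    (minusQ m F a b).polarBilin.Nondegenerate := by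
  by_cases h2 : (2 : F) = 0
  · have : CharP F 2 := CharTwo.of_one_ne_zero_of_two_eq_zero one_ne_zero h2
    have ha : a ≠ 0 := by
      rintro rfl
      obtain ⟨r, hr⟩ := FiniteField.isSquare_of_char_two (ringChar.eq_iff.2 inferInstance) b
      have := (hab r 1 (by rw [hr]; linear_combination (r * r) * h2)).2
      exact one_ne_zero this
    have key : ∀ x, (∀ y, polar (minusQ m F a b) x y = 0) → x = 0 := fun x hx => funext fun j => by
      rcases j with (i | i) | k
      · have := hx (Pi.single (Sum.inl (Sum.inr i)) 1)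
        simpa [polar_minusQ, Pi.single_apply, Finset.sum_add_distrib] using this
      · have := hx (Pi.single (Sum.inl (Sum.inl i)) 1)
        simpa [polar_minusQ, Pi.single_apply, Finset.sum_add_distrib] using this
      · fin_cases k
        · have := hx (Pi.single (Sum.inr 1) 1)
          simpa [polar_minusQ, Pi.single_apply, h2, ha] using this
        · have := hx (Pi.single (Sum.inr 0) 1)
          simpa [polar_minusQ, Pi.single_apply, h2, ha] using this
    exact ⟨key, fun y hy => key y fun x => by rw [polar_comm]; exact hy x⟩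
  · exact minusQ_nondegenerate h2 hab

variable {ι : Type} [Fintype ι] [DecidableEq ι] {Q : QuadraticForm F (ι → F)}

theorem det_omega (g : O Q) (hg : g ∈ commutator (O Q)) :
    ((g : Matrix.GeneralLinearGroup ι F) : Matrix ι ι F).det = 1 := by
  have h := Abelianization.commutator_subset_ker (detHom Q) hg
  rw [MonoidHom.mem_ker] at h
  exact congrArg Units.val h

/-- In odd dimension `-1` is never in `Ω`. -/
theorem neg_one_notMem (h2 : (2 : F) ≠ 0) (hodd : Odd (Fintype.card ι)) :
    ¬ ∃ g : O Q, g ∈ commutator (O Q) ∧ ((g : Matrix.GeneralLinearGroup ι F) : Matrix ι ι F) = -1 := by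
  rintro ⟨g, hg, hm⟩
  have := det_omega g hg
  rw [hm, Matrix.det_neg, Matrix.det_one, hodd.neg_one_pow, mul_one] at this
  exact h2 (by linear_combination -this)

theorem two_ne_zero_of_odd [Fintype F] (h : Odd (Fintype.card F)) : (2 : F) ≠ 0 := fun h2 => by
  have : CharP F 2 := CharTwo.of_one_ne_zero_of_two_eq_zero one_ne_zero h2
  have := FiniteField.even_card_of_char_two (ringChar.eq F 2 ▸ rfl : ringChar F = 2)
  have := Nat.odd_iff.1 h
  omega

theorem two_eq_zero_of_even [Fintype F] (h : ¬ Odd (Fintype.card F)) : (2 : F) = 0 := by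
  by_contra h2
  exact h (Nat.odd_iff.2 (FiniteField.odd_card_of_char_ne_two (fun hch => h2 (by
    have : CharP F 2 := ringChar.of_eq hch
    exact CharTwo.two_eq_zero))))

end CfsgLib.POmega
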