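import Cfsg.Agent.Lib.POmega.Basic
import Cfsg.Prelude.Def_Classical

/-!
The centre of `Ω`, simplicity of `PΩ` in dimension at least seven, and the order formula
`|O| = index · |centre| · |PΩ|`.
-/

set_option autoImplicit false
set_option linter.unusedSectionVars false

namespace CfsgLib.POmega

open Matrix QuadraticMap CfsgLib.Orth

variable {ι : Type} [Fintype ι] [DecidableEq ι] {F : Type*} [Field F] {Q : QuadraticForm F (ι → F)}

theorem eich_mul_of_line {u a b : ι → F} (hu : Q u = 0) (ha : polar Q u a = 0) (hb : polar Q u b = 0) :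
    eich Q u a * eich Q u b = eich Q u b * eich Q u a := by
  rw [eich_add hu ha hb, eich_add hu hb ha, add_comm]

variable (hQ : Q.polarBilin.Nondegenerate)
include hQ

/-- The singular vectors span. -/
theorem span_singular [Fintype F] (hn : 3 ≤ Fintype.card ι) :
    Submodule.span F {x : ι → F | Q x = 0} = ⊤ := by
  obtain ⟨u, -, hu0, hu⟩ := exists_singular_mem (Q := Q) (⊤ : Submodule F (ι → F))
    (by rw [finrank_top, Module.finrank_fintype_fun_eq_card]; exact hn)
  obtain ⟨v, huv, hv⟩ := exists_partner hQ hu hu0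
  rw [eq_top_iff]
  intro x _
  set S := Submodule.span F {x : ι → F | Q x = 0}
  have huS : u ∈ S := Submodule.subset_span hu
  have hvS : v ∈ S := Submodule.subset_span hv
  set y := x - polar Q x v • u - polar Q x u • v with hy
  have hvu : polar Q v u = 1 := by rw [polar_comm, huv]
  have hu2 : polar Q u u = 0 := by rw [polar_self', hu, mul_zero]
  have hv2 : polar Q v v = 0 := by rw [polar_self', hv, mul_zero]
  have h1 : polar Q y u = 0 := by simp [hy, polar_sub_left, polar_smul_left, hu2, hvu]
  have h2 : polar Q y v = 0 := by simp [hy, polar_sub_left, polar_smul_left, hv2, huv]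
  have hs : u + (-Q y) • v + y ∈ S := Submodule.subset_span (by
    show Q (u + (-Q y) • v + y) = 0
    simp [QuadraticMap.map_add ⇑Q, QuadraticMap.map_smul, polar_smul_right, polar_smul_left,
      polar_add_left, hu, hv, huv, polar_comm (f := ⇑Q) u y, h1, polar_comm (f := ⇑Q) v y, h2])
  have hx : x = (u + (-Q y) • v + y) - u - (-Q y) • v + polar Q x v • u + polar Q x u • v := by
    rw [hy]; abel
  rw [hx]
  exact add_mem (add_mem (sub_mem (sub_mem hs huS) (S.smul_mem _ hvS)) (S.smul_mem _ huS))
    (S.smul_mem _ hvS)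

/-- An isometry fixing every singular line is `±1`. -/
theorem scalar_of_lines [Fintype F] (hn : 7 ≤ Fintype.card ι) {g : O Q}
    (h : ∀ u, Q u = 0 → ∃ t : F, app g u = t • u) :
    ∃ e : F, e * e = 1 ∧ ∀ x, app g x = e • x := by
  classical
  choose t ht using h
  have hpair : ∀ (u v : ι → F) (hu : Q u = 0) (hv : Q v = 0), polar Q u v = 1 → t u hu * t v hv = 1 :=
    fun u v hu hv huv => by
      have := polar_app g u v
      rw [ht u hu, ht v hv, polar_smul_left, polar_smul_right, huv] at this
      simpa using this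
  have horth : ∀ (u v : ι → F) (hu : Q u = 0) (hv : Q v = 0), polar Q u v = 0 →
      v ∉ Submodule.span F {u} → u ≠ 0 → t u hu = t v hv := fun u v hu hv huv hind hu0 => by
    have hs : Q (u + v) = 0 := by rw [QuadraticMap.map_add ⇑Q, hu, hv, huv]; simp
    have e := ht (u + v) hs
    rw [map_add, ht u hu, ht v hv, smul_add] at e
    have hli : LinearIndependent F ![u, v] := by
      rw [LinearIndependent.pair_iff' hu0]
      exact fun a ha => hind (ha ▸ Submodule.smul_mem _ a (Submodule.mem_span_singleton_self u))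
    rw [← sub_eq_zero] at e
    have e' : (t u hu - t (u + v) hs) • u + (t v hv - t (u + v) hs) • v = 0 := by
      rw [← e]; module
    obtain ⟨e1, e2⟩ := LinearIndependent.pair_iff.mp hli _ _ e'
    linear_combination e1 - e2
  -- any two singular vectors have the same multiplier
  have hall : ∀ (u v : ι → F) (hu : Q u = 0) (hv : Q v = 0), u ≠ 0 → v ≠ 0 → t u hu = t v hv := by
    intro u v hu hv hu0 hv0
    obtain ⟨u', huu', -⟩ := exists_partner hQ hu hu0
    obtain ⟨v', hvv', -⟩ := exists_partner hQ hv hv0
    let W := LinearMap.BilinForm.orthogonal Q.polarBilin (Submodule.span F (Set.range ![u, v, u', v']))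
    have hW : 3 ≤ Module.finrank F W := by
      rw [LinearMap.BilinForm.finrank_orthogonal hQ, Module.finrank_fintype_fun_eq_card]
      have := finrank_range_le_card (R := F) ![u, v, u', v']
      rw [Set.finrank, Fintype.card_fin] at this
      omega
    obtain ⟨w, hwW, hw0, hw⟩ := exists_singular_mem (Q := Q) W hW
    have hwall : ∀ i, polar Q (![u, v, u', v'] i) w = 0 := fun i =>
      LinearMap.BilinForm.mem_orthogonal_iff.1 hwW _ (Submodule.subset_span ⟨i, rfl⟩)
    have notline : ∀ a a' : ι → F, polar Q a a' = 1 → polar Q a' w = 0 → w ∉ Submodule.span F {a} := by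
      intro a a' haa hw' hmem
      obtain ⟨c, rfl⟩ := Submodule.mem_span_singleton.1 hmem
      rw [polar_smul_right, polar_comm, haa, smul_eq_mul, mul_one] at hw'
      exact hw0 (by rw [hw', zero_smul])
    rw [horth u w hu hw (hwall 0) (notline u u' huu' (hwall 2)) hu0,
      horth v w hv hw (hwall 1) (notline v v' hvv' (hwall 3)) hv0]
  obtain ⟨u, -, hu0, hu⟩ := exists_singular_mem (Q := Q) (⊤ : Submodule F (ι → F))
    (by rw [finrank_top, Module.finrank_fintype_fun_eq_card]; omega)
  obtain ⟨v, huv, hv⟩ := exists_partner hQ hu hu0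
  refine ⟨t u hu, ?_, ?_⟩
  · have hv0 : v ≠ 0 := fun h => by rw [h, polar_zero_right] at huv; exact zero_ne_one huv
    have := hpair u v hu hv huv
    rwa [← hall u v hu hv hu0 hv0] at this
  · intro x
    have hmem : x ∈ Submodule.span F {x : ι → F | Q x = 0} := by
      rw [span_singular hQ (by omega)]; trivial
    induction hmem using Submodule.span_induction with
    | mem x hx =>
      by_cases hx0 : x = 0
      · simp [hx0]
      · rw [ht x hx, hall x u hx hu hx0 hu0]
    | zero => simp
    | add x y _ _ hx hy => rw [map_add, hx, hy, smul_add]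
    | smul c x _ hx => rw [map_smul, hx, smul_comm]

omit hQ in
theorem mem_center_of_scalar {g : commutator (O Q)} {e : F} (h : ∀ x, app g.1 x = e • x) :
    g ∈ Subgroup.center (commutator (O Q)) := by
  rw [Subgroup.mem_center_iff]
  intro k
  refine Subtype.ext (ext_app fun x => ?_)
  simp only [Subgroup.coe_mul, app_mul, h, map_smul]

/-- Commuting with `eich u a` for all `a ⊥ u` forces fixing the line of `u`. -/
theorem line_of_commute (hn : 5 ≤ Fintype.card ι) {g : O Q} {u : ι → F} (hu : Q u = 0)
    (h : ∀ a, polar Q u a = 0 → g * eich Q u a * g⁻¹ = eich Q u a) : ∃ t : F, app g u = t • u := by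
  by_cases hmem : app g u ∈ Submodule.span F {u}
  · obtain ⟨t, ht⟩ := Submodule.mem_span_singleton.1 hmem
    exact ⟨t, ht.symm⟩
  exfalso
  by_cases hu0 : u = 0
  · exact hmem (by rw [hu0, map_zero]; exact zero_mem _)
  have hgu0 : app g u ≠ 0 := fun h0 => hmem (by rw [h0]; exact zero_mem _)
  have hspan : u ∉ Submodule.span F {app g u} := fun h' => hmem (by
    obtain ⟨c, hc⟩ := Submodule.mem_span_singleton.1 h'
    have hc0 : c ≠ 0 := fun hc0 => hu0 (by rw [← hc, hc0, zero_smul])
    have : app g u = c⁻¹ • u := by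
      calc app g u = c⁻¹ • (c • app g u) := by rw [smul_smul, inv_mul_cancel₀ hc0, one_smul]
        _ = c⁻¹ • u := by rw [hc]
    rw [this]; exact Submodule.smul_mem _ _ (Submodule.mem_span_singleton_self u))
  obtain ⟨b, hgb, hub⟩ := exists_polar_eq_zero_one hQ hspan
  -- every `a ⊥ u` would lie in the plane of `u` and `g u`
  let P := Submodule.span F (Set.range ![u, app g u])
  have hle : LinearMap.BilinForm.orthogonal Q.polarBilin (Submodule.span F {u}) ≤ P := by
    intro a ha
    have hua : polar Q u a = 0 :=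
      LinearMap.BilinForm.mem_orthogonal_iff.1 ha u (Submodule.mem_span_singleton_self u)
    have e := congrArg (fun k => app k b) (h a hua)
    simp only [eich_conj hu hua, app_eich hu hua,
      app_eich (u := app g u) (by rw [Q_app, hu]) (by rw [polar_app, hua])] at e
    rw [polar_comm _ b (app g u), hgb, polar_comm _ b u, hub] at e
    simp only [zero_smul, add_zero, one_smul, mul_zero, sub_zero, mul_one] at e
    have : a = (-(polar Q b (app g a))) • app g u + (polar Q b a + Q a) • u := by
      have e' := congrArg (fun z => z - b - (-(polar Q b a) - Q a) • u) e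
      rw [eq_comm]
      convert e' using 1 <;> module
    rw [this]
    exact add_mem (Submodule.smul_mem _ _ (Submodule.subset_span ⟨1, rfl⟩))
      (Submodule.smul_mem _ _ (Submodule.subset_span ⟨0, rfl⟩))
  have h1 := Submodule.finrank_mono hle
  rw [LinearMap.BilinForm.finrank_orthogonal hQ, Module.finrank_fintype_fun_eq_card,
    finrank_span_singleton hu0] at h1
  have h2 := finrank_range_le_card (R := F) ![u, app g u]
  rw [Set.finrank, Fintype.card_fin] at h2
  have h3 : Module.finrank F P ≤ 2 := h2
  omega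

theorem center_scalar [Fintype F] (hn : 7 ≤ Fintype.card ι) {g : commutator (O Q)}
    (hg : g ∈ Subgroup.center (commutator (O Q))) :
    ∃ e : F, e * e = 1 ∧ ∀ x, app g.1 x = e • x := by
  refine scalar_of_lines hQ hn fun u hu => line_of_commute hQ (by omega) hu fun a ha => ?_
  have := Subgroup.mem_center_iff.1 hg ⟨eich Q u a, eich_mem_commutator hQ (by omega) hu ha⟩
  have e : eich Q u a * g.1 = g.1 * eich Q u a := congrArg Subtype.val this
  rw [← e, mul_inv_cancel_right]

/-- A normal subgroup of `Ω` is central or everything. -/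
theorem normal_le_center_or_top [Fintype F] (hn : 7 ≤ Fintype.card ι)
    (N : Subgroup (commutator (O Q))) [N.Normal] :
    N ≤ Subgroup.center _ ∨ N = ⊤ := by
  classical
  let R : (ι → F) → (ι → F) → Prop := fun u w => ∃ g ∈ N, ∃ t : F, t ≠ 0 ∧ app g.1 u = t • w
  by_cases hfix : ∀ u, Q u = 0 → ∀ g ∈ N, ∃ t : F, app g.1 u = t • u
  · left
    intro g hg
    obtain ⟨e, -, he⟩ := scalar_of_lines hQ hn fun u hu => hfix u hu g hg
    exact mem_center_of_scalar he
  right
  have hsymm : ∀ {u w}, R u w → R w u := by
    rintro u w ⟨g, hg, t, ht, e⟩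
    refine ⟨g⁻¹, inv_mem hg, t⁻¹, inv_ne_zero ht, ?_⟩
    have := congrArg (app (g.1)⁻¹) e
    rw [app_inv_app, map_smul] at this
    rw [Subgroup.coe_inv, this, smul_smul, inv_mul_cancel₀ ht, one_smul]
  have htrans : ∀ {u v w}, R u v → R v w → R u w := by
    rintro u v w ⟨g, hg, t, ht, e⟩ ⟨g', hg', t', ht', e'⟩
    refine ⟨g' * g, mul_mem hg' hg, t * t', mul_ne_zero ht ht', ?_⟩
    rw [Subgroup.coe_mul, app_mul, e, map_smul, e', smul_smul]
  have hmove : ∀ {u w}, R u w → ∀ h : commutator (O Q), R (app h.1 u) (app h.1 w) := by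
    rintro u w ⟨g, hg, t, ht, e⟩ h
    refine ⟨h * g * h⁻¹, Subgroup.Normal.conj_mem inferInstance g hg h, t, ht, ?_⟩
    rw [Subgroup.coe_mul, Subgroup.coe_mul, Subgroup.coe_inv, app_mul, app_mul, app_inv_app, e, map_smul]
  have hscal : ∀ {u w} {c : F}, c ≠ 0 → (R u (c • w) ↔ R u w) := by
    intro u w c hc
    constructor
    · rintro ⟨g, hg, t, ht, e⟩
      exact ⟨g, hg, t * c, mul_ne_zero ht hc, by rw [e, smul_smul]⟩
    · rintro ⟨g, hg, t, ht, e⟩
      exact ⟨g, hg, t / c, div_ne_zero ht hc, by rw [e, smul_smul, div_mul_cancel₀ _ hc]⟩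
  -- `Ω` is transitive on ordered pairs of lines of each type
  have hpairs : ∀ {u w u' w' : ι → F}, LinearIndependent F ![u, w] → LinearIndependent F ![u', w'] →
      Q u = 0 → Q w = 0 → Q u' = 0 → Q w' = 0 → polar Q u w = polar Q u' w' → R u w → R u' w' := by
    intro u w u' w' hl hl' hu hw hu' hw' hp hR
    obtain ⟨g, hg⟩ := exists_O_map hQ ![u, w] ![u', w'] hl hl'
      (fun i => by fin_cases i <;> simp [hu, hw, hu', hw'])
      (fun i j => by
        fin_cases i <;> fin_cases j <;>
          simp [polar_self', hu, hw, hu', hw', hp, polar_comm (f := ⇑Q) w u, polar_comm (f := ⇑Q) w' u'])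
    obtain ⟨h, hh, hhx⟩ := omega_agree hQ ![u, w] (by omega) (by omega) g
    have := hmove hR ⟨h, hh⟩
    have e0 : app h u = u' := (hhx 0).trans (hg 0)
    have e1 : app h w = w' := (hhx 1).trans (hg 1)
    simpa [e0, e1] using this
  have hli : ∀ {u w : ι → F}, u ≠ 0 → w ∉ Submodule.span F {u} → LinearIndependent F ![u, w] :=
    fun hu0 hind => by
      rw [LinearIndependent.pair_iff' hu0]
      exact fun a ha => hind (ha ▸ Submodule.smul_mem _ a (Submodule.mem_span_singleton_self _))
  have hnonline : ∀ {u w : ι → F}, Q u = 0 → polar Q u w ≠ 0 → w ∉ Submodule.span F {u} := by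
    intro u w hu hp hmem
    obtain ⟨c, rfl⟩ := Submodule.mem_span_singleton.1 hmem
    exact hp (by rw [polar_smul_right, polar_self', hu, mul_zero, smul_zero])
  -- a related pair of non-orthogonal vectors
  obtain ⟨u, w, hu, hw, hp, hR⟩ : ∃ u w, Q u = 0 ∧ Q w = 0 ∧ polar Q u w = 1 ∧ R u w := by
    push Not at hfix
    obtain ⟨u, hu, g, hg, hgu⟩ := hfix
    set w := app g.1 u
    have hw : Q w = 0 := by rw [Q_app, hu]
    have hu0 : u ≠ 0 := fun h => hgu 0 (by simp [w, h])
    have hR : R u w := ⟨g, hg, 1, one_ne_zero, by rw [one_smul]⟩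
    have hind : w ∉ Submodule.span F {u} := fun hmem => by
      obtain ⟨c, hc⟩ := Submodule.mem_span_singleton.1 hmem
      exact hgu c hc.symm
    by_cases hp : polar Q u w = 0
    · obtain ⟨r, hwr, hur, hr⟩ := exists_pair hQ ![w] hu
        (fun i => by fin_cases i; simpa [polar_comm (f := ⇑Q) w u] using hp)
        (by
          rw [Matrix.range_cons, Matrix.range_empty, Set.union_empty, Submodule.mem_span_singleton]
          rintro ⟨c, hc⟩
          have hc0 : c ≠ 0 := fun h => hu0 (by rw [← hc, h, zero_smul])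
          exact hind (Submodule.mem_span_singleton.2 ⟨c⁻¹, by
            rw [← hc, smul_smul, inv_mul_cancel₀ hc0, one_smul]⟩))
      have hwr' : polar Q w r = 0 := hwr 0
      have hw0 : w ≠ 0 := fun h => hind (by rw [h]; exact zero_mem _)
      have hind' : r ∉ Submodule.span F {w} := fun hmem => by
        obtain ⟨c, rfl⟩ := Submodule.mem_span_singleton.1 hmem
        rw [polar_smul_right, hp, smul_zero] at hur
        exact zero_ne_one hur
      exact ⟨u, r, hu, hr, hur, htrans hR (hpairs (hli hu0 hind) (hli hw0 hind') hu hw hw hr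
        (by rw [hp, hwr']) hR)⟩
    · refine ⟨u, (polar Q u w)⁻¹ • w, hu, by rw [QuadraticMap.map_smul, hw, smul_zero], ?_,
        (hscal (inv_ne_zero hp)).2 hR⟩
      rw [polar_smul_right, smul_eq_mul, inv_mul_cancel₀ hp]
  have hu0 : u ≠ 0 := fun h => by rw [h, polar_zero_left] at hp; exact zero_ne_one hp
  have hnonorth : ∀ {x y}, Q x = 0 → Q y = 0 → polar Q x y ≠ 0 → R x y := by
    intro x y hx hy hxy
    have hx0 : x ≠ 0 := fun h => hxy (by rw [h, polar_zero_left])
    rw [← hscal (inv_ne_zero hxy)]
    refine hpairs (hli hu0 (hnonline hu (by rw [hp]; exact one_ne_zero))) (hli hx0 (hnonline hx ?_)) hu hw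
      hx (by rw [QuadraticMap.map_smul, hy, smul_zero]) ?_ hR
    · rw [polar_smul_right, smul_eq_mul, inv_mul_cancel₀ hxy]; exact one_ne_zero
    · rw [hp, polar_smul_right, smul_eq_mul, inv_mul_cancel₀ hxy]
  have hall : ∀ {x y}, Q x = 0 → Q y = 0 → x ≠ 0 → y ≠ 0 → R x y := by
    intro x y hx hy hx0 hy0
    by_cases hxy : polar Q x y = 0
    · by_cases hl : y ∈ Submodule.span F {x}
      · obtain ⟨c, rfl⟩ := Submodule.mem_span_singleton.1 hl
        exact (hscal (smul_ne_zero_iff.1 hy0).1).2 ⟨1, one_mem _, 1, one_ne_zero, by simp⟩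
      · have hyx : polar Q y x = 0 := by rw [polar_comm, hxy]
        have hxy' : x ∉ Submodule.span F (Set.range ![y]) := by
          rw [Matrix.range_cons, Matrix.range_empty, Set.union_empty, Submodule.mem_span_singleton]
          rintro ⟨c, hc⟩
          have hc0 : c ≠ 0 := fun h => hx0 (by rw [← hc, h, zero_smul])
          exact hl (Submodule.mem_span_singleton.2 ⟨c⁻¹, by
            rw [← hc, smul_smul, inv_mul_cancel₀ hc0, one_smul]⟩)
        have hyx' : y ∉ Submodule.span F (Set.range ![x]) := by
          rwa [Matrix.range_cons, Matrix.range_empty, Set.union_empty]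
        obtain ⟨p, hyp, hxp, -⟩ := exists_pair hQ ![y] hx (fun i => by fin_cases i; exact hyx) hxy'
        obtain ⟨p', hxp', hyp', -⟩ := exists_pair hQ ![x] hy (fun i => by fin_cases i; exact hxy) hyx'
        have e1 : polar Q y p = 0 := hyp 0
        have e2 : polar Q x p' = 0 := hxp' 0
        have hx2 : polar Q x x = 0 := by rw [polar_self', hx, mul_zero]
        set z := p + p' + (-Q (p + p')) • x
        have hz1 : polar Q x z = 1 := by
          simp [z, polar_add_right, polar_smul_right, hxp, e2, hx2]
        have hz2 : polar Q y z = 1 := by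
          simp [z, polar_add_right, polar_smul_right, hyp', e1, hyx]
        have hz : Q z = 0 := by
          simp only [z]
          rw [QuadraticMap.map_add ⇑Q (p + p'), QuadraticMap.map_smul, hx, smul_zero, add_zero,
            polar_smul_right, polar_comm, polar_add_right, hxp, e2, add_zero, smul_eq_mul, mul_one,
            add_neg_cancel]
        exact htrans (hnonorth hx hz (by rw [hz1]; exact one_ne_zero))
          (hnonorth hz hy (by rw [polar_comm, hz2]; exact one_ne_zero))
    · exact hnonorth hx hy hxy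
  -- the quotient is generated by the image of an abelian root group
  let π := QuotientGroup.mk' N
  have hgen : ∀ g : commutator (O Q), ∃ a, ∃ ha : polar Q u a = 0,
      π g = π ⟨eich Q u a, eich_mem_commutator hQ (by omega) hu ha⟩ := by
    have hel : ∀ g : O Q, g ∈ eichGroup Q → ∀ hgm : g ∈ commutator (O Q), ∃ a, ∃ ha : polar Q u a = 0,
        π ⟨g, hgm⟩ = π ⟨eich Q u a, eich_mem_commutator hQ (by omega) hu ha⟩ := by
      intro g hg
      induction hg using Subgroup.closure_induction with
      | mem g hg =>
        intro hgm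
        obtain ⟨x, a, hx, ha, rfl⟩ := hg
        by_cases hx0 : x = 0
        · refine ⟨0, polar_zero_right _ _, congrArg π (Subtype.ext ?_)⟩
          simp only [hx0, eich_zero_left, eich_zero_right hu]
        obtain ⟨k, hk, t, ht, hkx⟩ := hall hx hu hx0 hu0
        have hka : polar Q u (t • app k.1 a) = 0 := by
          have := polar_app k.1 x a
          rw [hkx, ha, polar_smul_left] at this
          rw [polar_smul_right, this]
        refine ⟨t • app k.1 a, hka, ?_⟩
        have e : (⟨eich Q u (t • app k.1 a), eich_mem_commutator hQ (by omega) hu hka⟩ : commutator (O Q))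
            = k * ⟨eich Q x a, hgm⟩ * k⁻¹ := by
          refine Subtype.ext ?_
          rw [Subgroup.coe_mul, Subgroup.coe_mul, Subgroup.coe_inv, eich_conj hx ha, hkx,
            eich_smul hu (by
              have := polar_app k.1 x a
              rw [hkx, ha, polar_smul_left, smul_eq_mul, mul_eq_zero] at this
              exact this.resolve_left ht)]
        have hk1 : π k = 1 := (QuotientGroup.eq_one_iff k).2 hk
        rw [e, map_mul, map_mul, map_inv, hk1, one_mul, inv_one, mul_one]
      | one =>
        intro hgm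
        exact ⟨0, polar_zero_right _ _, congrArg π (Subtype.ext (eich_zero_right hu).symm)⟩
      | mul g g' hg hg' ih ih' =>
        intro hgm
        have hgm1 : g ∈ commutator (O Q) := by rw [commutator_eq_eichGroup hQ (by omega)]; exact hg
        have hgm2 : g' ∈ commutator (O Q) := by rw [commutator_eq_eichGroup hQ (by omega)]; exact hg'
        obtain ⟨a, ha, e⟩ := ih hgm1
        obtain ⟨a', ha', e'⟩ := ih' hgm2
        refine ⟨a + a', by rw [polar_add_right, ha, ha', add_zero], ?_⟩
        rw [show (⟨g * g', hgm⟩ : commutator (O Q)) = ⟨g, hgm1⟩ * ⟨g', hgm2⟩ from rfl, map_mul, e, e', ← map_mul]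
        exact congrArg π (Subtype.ext (eich_add hu ha ha'))
      | inv g hg ih =>
        intro hgm
        have hgm1 : g ∈ commutator (O Q) := by rw [commutator_eq_eichGroup hQ (by omega)]; exact hg
        obtain ⟨a, ha, e⟩ := ih hgm1
        refine ⟨-a, by rw [polar_neg_right, ha, neg_zero], ?_⟩
        rw [show (⟨g⁻¹, hgm⟩ : commutator (O Q)) = (⟨g, hgm1⟩)⁻¹ from rfl, map_inv, e, ← map_inv]
        exact congrArg π (Subtype.ext (eich_neg_inv hu ha))
    intro g
    exact hel g.1 (by rw [← commutator_eq_eichGroup hQ (by omega)]; exact g.2) g.2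
  have hab : commutator (commutator (O Q)) ≤ N := by
    show ⁅(⊤ : Subgroup (commutator (O Q))), ⊤⁆ ≤ N
    rw [Subgroup.commutator_le]
    intro g _ g' _
    obtain ⟨a, ha, e⟩ := hgen g
    obtain ⟨a', ha', e'⟩ := hgen g'
    rw [← QuotientGroup.eq_one_iff]
    show π _ = 1
    rw [map_commutatorElement, e, e', ← map_commutatorElement, commutatorElement_eq_one_iff_mul_comm.2
      (Subtype.ext (eich_mul_of_line hu ha ha')), map_one]
  rw [omega_perfect hQ (by omega)] at hab
  exact top_le_iff.1 hab

/-- `PΩ` is simple in dimension at least seven. -/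
theorem isSimple [Fintype F] (hn : 7 ≤ Fintype.card ι) : IsSimpleGroup (Cfsg.POmega F ⇑Q) := by
  show IsSimpleGroup (commutator (O Q) ⧸ Subgroup.center (commutator (O Q)))
  set Z := Subgroup.center (commutator (O Q))
  let π := QuotientGroup.mk' Z
  obtain ⟨u, -, hu0, hu⟩ := exists_singular_mem (Q := Q) (⊤ : Submodule F (ι → F))
    (by rw [finrank_top, Module.finrank_fintype_fun_eq_card]; omega)
  obtain ⟨v, huv, hv⟩ := exists_partner hQ hu hu0
  obtain ⟨a, ha, hQa⟩ := exists_aniso_perp hQ ![u, v] (by omega)
  have hua : polar Q u a = 0 := ha 0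
  have : Nontrivial (commutator (O Q) ⧸ Z) := by
    refine ⟨π ⟨eich Q u a, eich_mem_commutator hQ (by omega) hu hua⟩, 1, fun h => ?_⟩
    obtain ⟨e, -, he⟩ := center_scalar hQ hn ((QuotientGroup.eq_one_iff _).mp h)
    have h1 := he u
    rw [app_eich hu hua, polar_self' u, hu, polar_comm _ u a, polar_comm _ a u, hua] at h1
    have he1 : e = 1 := by
      by_contra he1
      refine hu0 ?_
      have h1' : (e - 1) • u = 0 := by rw [sub_smul, one_smul, ← h1]; simp
      exact (smul_eq_zero.1 h1').resolve_left (sub_ne_zero.2 he1)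
    have h2 := he v
    have hva : polar Q v a = 0 := ha 1
    rw [he1, one_smul, app_eich hu hua, polar_comm _ v u, huv, hva, one_smul, add_assoc, add_eq_left] at h2
    have hQa' := congrArg Q h2
    rw [QuadraticMap.map_zero, QuadraticMap.map_add ⇑Q, QuadraticMap.map_smul, hu, polar_smul_right,
      polar_comm _ a u, hua] at hQa'
    simp at hQa'
    exact hQa hQa'
  refine ⟨fun N hN => ?_⟩
  rcases normal_le_center_or_top hQ hn (N.comap π) with h | h
  · left
    rw [eq_bot_iff]
    intro x hx
    obtain ⟨A, rfl⟩ := QuotientGroup.mk'_surjective Z x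
    exact (QuotientGroup.eq_one_iff A).mpr (h hx)
  · right
    rw [eq_top_iff]
    intro x _
    obtain ⟨A, rfl⟩ := QuotientGroup.mk'_surjective Z x
    have : A ∈ N.comap π := by rw [h]; trivial
    exact this

/-- The order of `PΩ` through the index of `Ω` and the centre. -/
theorem card_O_eq [Fintype F] :
    Nat.card (O Q) = (commutator (O Q)).index * (Nat.card (Subgroup.center (commutator (O Q))) *
      Nat.card (Cfsg.POmega F ⇑Q)) := by
  rw [← (commutator (O Q)).card_mul_index, mul_comm,
    Subgroup.card_eq_card_quotient_mul_card_subgroup (Subgroup.center (commutator (O Q))),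
    mul_comm (Nat.card (commutator (O Q) ⧸ Subgroup.center (commutator (O Q))))]

/-- The centre is trivial unless `-1` lies in `Ω`. -/
theorem center_eq_bot [Fintype F] (hn : 7 ≤ Fintype.card ι)
    (h : (2 : F) = 0 ∨ ¬ ∃ g : O Q, g ∈ commutator (O Q) ∧
      ((g : Matrix.GeneralLinearGroup ι F) : Matrix ι ι F) = -1) :
    Nat.card (Subgroup.center (commutator (O Q))) = 1 := by
  rw [Subgroup.card_eq_one, eq_bot_iff]
  intro g hg
  obtain ⟨e, he, hx⟩ := center_scalar hQ hn hg
  rw [Subgroup.mem_bot]
  rcases mul_self_eq_one_iff.1 he with rfl | rfl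
  · exact Subtype.ext (ext_app fun x => by simp [hx])
  · rcases h with h2 | h
    · refine Subtype.ext (ext_app fun x => ?_)
      rw [hx, Subgroup.coe_one, app_one, show (-1 : F) = 1 by linear_combination -h2, one_smul]
    · exact absurd ⟨g.1, g.2, Matrix.ext_of_mulVec_single fun i => by
        rw [← app_apply, hx, Matrix.neg_mulVec, Matrix.one_mulVec, neg_one_smul]⟩ h

theorem center_eq_two [Fintype F] (hn : 7 ≤ Fintype.card ι) (h2 : (2 : F) ≠ 0)
    (h : ∃ g : O Q, g ∈ commutator (O Q) ∧
      ((g : Matrix.GeneralLinearGroup ι F) : Matrix ι ι F) = -1) :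
    Nat.card (Subgroup.center (commutator (O Q))) = 2 := by
  classical
  obtain ⟨z, hzm, hz⟩ := h
  have hzx : ∀ x, app z x = (-1 : F) • x := fun x => by
    rw [app_apply, hz, Matrix.neg_mulVec, Matrix.one_mulVec, neg_one_smul]
  let z' : Subgroup.center (commutator (O Q)) := ⟨⟨z, hzm⟩, mem_center_of_scalar hzx⟩
  rw [Nat.card_eq_two_iff]
  refine ⟨1, z', fun h1 => ?_, Set.eq_univ_of_forall fun g => ?_⟩
  · obtain ⟨u, -, hu0, -⟩ := exists_singular_mem (Q := Q) (⊤ : Submodule F (ι → F))
      (by rw [finrank_top, Module.finrank_fintype_fun_eq_card]; omega)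
    have h1' : (1 : O Q) = z := congrArg (fun k : Subgroup.center (commutator (O Q)) => k.1.1) h1
    have := hzx u
    rw [← h1', app_one] at this
    have h3 : ((1 : F) - (-1)) • u = 0 := by rw [sub_smul, one_smul, ← this, sub_self]
    rcases smul_eq_zero.1 h3 with h4 | h4
    · exact h2 (by linear_combination h4)
    · exact hu0 h4
  · obtain ⟨e, he, hx⟩ := center_scalar hQ hn g.2
    rcases mul_self_eq_one_iff.1 he with rfl | rfl
    · left; exact Subtype.ext (Subtype.ext (ext_app fun x => by simp [hx]))
    · right; exact Subtype.ext (Subtype.ext (ext_app fun x => by rw [hx]; exact (hzx x).symm))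

end CfsgLib.POmega
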