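import Mathlib

/-!
Descending maps defined over a bigger field to an embedded vector space over a smaller one.
-/

set_option autoImplicit false

namespace CfsgLib.POmega

theorem exists_descend {F K V M G : Type*} [Field F] [Field K] [AddCommGroup V] [Module F V] [AddCommGroup M]
    [Module K M] (ι : F →+* K) (enc : V → M) (hinj : Function.Injective enc)
    (hadd : ∀ u v, enc (u + v) = enc u + enc v) (hsmul : ∀ (c : F) v, enc (c • v) = ι c • enc v)
    (T : G → M → M) (Tadd : ∀ g m n, T g (m + n) = T g m + T g n)
    (Tsmul : ∀ g (c : F) m, T g (ι c • m) = ι c • T g m)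
    (hinv : ∀ g v, ∃ w, enc w = T g (enc v)) :
    ∃ ρ : G → V →ₗ[F] V, ∀ g v, enc (ρ g v) = T g (enc v) := by
  choose f hf using hinv
  refine ⟨fun g =>
    { toFun := f g
      map_add' := fun u v => hinj (by rw [hf, hadd, Tadd, ← hf, ← hf, ← hadd])
      map_smul' := fun c v => hinj (by
        rw [hf, hsmul, Tsmul, ← hf, RingHom.id_apply, ← hsmul]) }, fun g v => hf g v⟩

end CfsgLib.POmega
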