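import Cfsg.Agent.Lib.POmega.Bridge

/-!
The exterior square of `4 × 4` matrices with the Pfaffian form, and a uniform index formula for `Ω`.
-/

set_option autoImplicit false
set_option linter.unusedSectionVars false

namespace CfsgLib.POmega

open Matrix QuadraticMap CfsgLib.Orth

variable {F : Type*} [Field F]

/-- The pairs `01, 02, 03, 12, 13, 23`: first entries. -/
def pr₁ : Fin 6 → Fin 4 := ![0, 0, 0, 1, 1, 2]

/-- The pairs `01, 02, 03, 12, 13, 23`: second entries. -/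
def pr₂ : Fin 6 → Fin 4 := ![1, 2, 3, 2, 3, 3]

/-- The compound matrix of `2 × 2` minors. -/
def wedge (M : Matrix (Fin 4) (Fin 4) F) : Matrix (Fin 6) (Fin 6) F :=
  Matrix.of fun r c => M (pr₁ r) (pr₁ c) * M (pr₂ r) (pr₂ c) - M (pr₁ r) (pr₂ c) * M (pr₂ r) (pr₁ c)

/-- The Pfaffian. -/
def pf (p : Fin 6 → F) : F := p 0 * p 5 - p 1 * p 4 + p 2 * p 3

/-- The Hodge star. -/
def star (p : Fin 6 → F) : Fin 6 → F := ![p 5, -p 4, p 3, p 2, -p 1, p 0]

theorem wedge_one : wedge (1 : Matrix (Fin 4) (Fin 4) F) = 1 := by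
  ext r c
  fin_cases r <;> fin_cases c <;> simp [wedge, pr₁, pr₂, Matrix.one_apply]

theorem wedge_mul (M N : Matrix (Fin 4) (Fin 4) F) : wedge (M * N) = wedge M * wedge N := by
  ext r c
  simp only [wedge, Matrix.of_apply, Matrix.mul_apply, Fin.sum_univ_four, Fin.sum_univ_six]
  simp [pr₁, pr₂]
  ring

theorem wedge_transpose (M : Matrix (Fin 4) (Fin 4) F) : wedge Mᵀ = (wedge M)ᵀ := by
  ext r c
  simp [wedge]
  ring

theorem wedge_map {L : Type*} [Field L] (τ : F →+* L) (M : Matrix (Fin 4) (Fin 4) F) :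
    wedge (M.map τ) = (wedge M).map τ := by
  ext r c
  simp [wedge]

theorem det_four (M : Matrix (Fin 4) (Fin 4) F) : M.det =
    M 0 0 * (M 1 1 * (M 2 2 * M 3 3 - M 2 3 * M 3 2) - M 1 2 * (M 2 1 * M 3 3 - M 2 3 * M 3 1)
      + M 1 3 * (M 2 1 * M 3 2 - M 2 2 * M 3 1))
    - M 0 1 * (M 1 0 * (M 2 2 * M 3 3 - M 2 3 * M 3 2) - M 1 2 * (M 2 0 * M 3 3 - M 2 3 * M 3 0)
      + M 1 3 * (M 2 0 * M 3 2 - M 2 2 * M 3 0))
    + M 0 2 * (M 1 0 * (M 2 1 * M 3 3 - M 2 3 * M 3 1) - M 1 1 * (M 2 0 * M 3 3 - M 2 3 * M 3 0)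
      + M 1 3 * (M 2 0 * M 3 1 - M 2 1 * M 3 0))
    - M 0 3 * (M 1 0 * (M 2 1 * M 3 2 - M 2 2 * M 3 1) - M 1 1 * (M 2 0 * M 3 2 - M 2 2 * M 3 0)
      + M 1 2 * (M 2 0 * M 3 1 - M 2 1 * M 3 0)) := by
  simp [Matrix.det_succ_row_zero, Fin.sum_univ_succ, Fin.succAbove]
  ring

theorem wedge_mulVec (M : Matrix (Fin 4) (Fin 4) F) (p : Fin 6 → F) (r : Fin 6) :
    (wedge M *ᵥ p) r =
      ∑ c, (M (pr₁ r) (pr₁ c) * M (pr₂ r) (pr₂ c) - M (pr₁ r) (pr₂ c) * M (pr₂ r) (pr₁ c)) * p c := rfl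

theorem pf_wedge (M : Matrix (Fin 4) (Fin 4) F) (p : Fin 6 → F) :
    pf (wedge M *ᵥ p) = M.det * pf p := by
  simp only [pf, det_four, wedge_mulVec, Fin.sum_univ_six]
  simp [pr₁, pr₂]
  ring

theorem pf_polar (p r : Fin 6 → F) : pf (p + r) - pf p - pf r = p ⬝ᵥ star r := by
  simp [pf, star, dotProduct, Fin.sum_univ_six]
  ring

theorem star_star (p : Fin 6 → F) : star (star p) = p := by
  funext i; fin_cases i <;> simp [star]

/-- For determinant one the transpose of the compound matrix inverts its conjugate by the star. -/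
theorem star_wedge (M : Matrix (Fin 4) (Fin 4) F) (hM : M.det = 1) (r : Fin 6 → F) :
    (wedge M)ᵀ *ᵥ star (wedge M *ᵥ r) = star r := by
  refine funext fun i => ?_
  have h : ∀ p : Fin 6 → F, (wedge M *ᵥ p) ⬝ᵥ star (wedge M *ᵥ r) = p ⬝ᵥ star r := fun p => by
    rw [← pf_polar, ← pf_polar, ← Matrix.mulVec_add, pf_wedge, pf_wedge, pf_wedge, hM, one_mul, one_mul, one_mul]
  have := h (Pi.single i 1)
  rw [single_dotProduct, one_mul] at this
  rw [← this, Matrix.mulVec_single_one]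
  rfl

/-- A matrix whose compound fixes enough bivectors is a scalar square root of one. -/
theorem scalar_of_wedge (M : Matrix (Fin 4) (Fin 4) F)
    (h : ∀ c : Fin 6, c = 0 ∨ c = 2 ∨ c = 3 ∨ c = 5 → wedge M *ᵥ Pi.single c 1 = Pi.single c 1)
    (h' : wedge M *ᵥ (Pi.single 1 1 - Pi.single 4 1) = Pi.single 1 1 - Pi.single 4 1) :
    ∃ μ : F, μ * μ = 1 ∧ M = μ • 1 := by
  have e : ∀ c : Fin 6, c = 0 ∨ c = 2 ∨ c = 3 ∨ c = 5 → ∀ r, wedge M r c = (Pi.single c (1 : F) : Fin 6 → F) r :=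
    fun c hc r => by
      have := congrFun (h c hc) r
      rwa [Matrix.mulVec_single_one] at this
  have a := e 0 (by decide)
  have b := e 2 (by decide)
  have c := e 3 (by decide)
  have d := e 5 (by decide)
  have a0 := a 0
  have a1 := a 1
  have a2 := a 2
  have a3 := a 3
  have a4 := a 4
  have a5 := a 5
  have b0 := b 0
  have b1 := b 1
  have b2 := b 2
  have b3 := b 3
  have b4 := b 4
  have b5 := b 5
  have c0 := c 0
  have c1 := c 1
  have c2 := c 2
  have c3 := c 3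
  have c4 := c 4
  have c5 := c 5
  have d0 := d 0
  have d1 := d 1
  have d2 := d 2
  have d3 := d 3
  have d4 := d 4
  have d5 := d 5
  simp [wedge, pr₁, pr₂] at a0 a1 a2 a3 a4 a5 b0 b1 b2 b3 b4 b5 c0 c1 c2 c3 c4 c5 d0 d1 d2 d3 d4 d5
  have z20 : M 2 0 = 0 := by linear_combination (-M 2 0) * a0 + M 1 0 * a1 - M 0 0 * a3
  have z30 : M 3 0 = 0 := by linear_combination (-M 3 0) * a0 + M 1 0 * a2 - M 0 0 * a4
  have z21 : M 2 1 = 0 := by linear_combination (-M 2 1) * a0 + M 1 1 * a1 - M 0 1 * a3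
  have z31 : M 3 1 = 0 := by linear_combination (-M 3 1) * a0 + M 1 1 * a2 - M 0 1 * a4
  have z10 : M 1 0 = 0 := by linear_combination (-M 1 0) * b2 + M 0 0 * b4 + M 3 0 * b0
  have z13 : M 1 3 = 0 := by linear_combination (-M 1 3) * b2 + M 0 3 * b4 + M 3 3 * b0
  have z23 : M 2 3 = 0 := by linear_combination (-M 2 3) * b2 + M 0 3 * b5 + M 3 3 * b1
  have z01 : M 0 1 = 0 := by linear_combination (-M 0 1) * c3 + M 1 1 * c1 - M 2 1 * c0
  have z02 : M 0 2 = 0 := by linear_combination (-M 0 2) * c3 + M 1 2 * c1 - M 2 2 * c0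
  have z32 : M 3 2 = 0 := by linear_combination (-M 3 2) * c3 - M 1 2 * c5 + M 2 2 * c4
  have z03 : M 0 3 = 0 := by linear_combination (-M 0 3) * d5 + M 2 3 * d2 - M 3 3 * d1
  have z12 : M 1 2 = 0 := by linear_combination (-M 1 2) * d5 + M 2 2 * d4 - M 3 2 * d3
  have m := congrFun h' 1
  simp [Matrix.mulVec_sub, Matrix.mulVec_single_one, wedge, pr₁, pr₂, z20, z01, z02, z21, z23, z03] at m
  simp [z10, z20, z30, z21, z31, z01] at a0
  simp [z10, z13, z30, z03] at b2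
  simp [z12, z21] at c3
  simp [z23, z32] at d5
  have e20 : M 2 2 = M 0 0 := by
    have h1 : M 1 1 * M 2 2 = M 1 1 * M 0 0 := by linear_combination c3 - a0
    exact mul_left_cancel₀ (fun h => by simp [h] at a0) h1
  have e31 : M 3 3 = M 1 1 := by
    have h1 : M 0 0 * M 3 3 = M 0 0 * M 1 1 := by linear_combination b2 - a0
    exact mul_left_cancel₀ (fun h => by simp [h] at a0) h1
  rw [e20] at m
  have e10 : M 1 1 = M 0 0 := by
    have h1 : M 0 0 * M 1 1 = M 0 0 * M 0 0 := by linear_combination a0 - m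
    exact mul_left_cancel₀ (fun h => by simp [h] at a0) h1
  refine ⟨M 0 0, m, ?_⟩
  ext i j
  fin_cases i <;> fin_cases j <;>
    simp [z01, z02, z03, z10, z12, z13, z20, z21, z23, z30, z31, z32, e20, e10, e31]

theorem wedge_scalar {μ : F} (hμ : μ * μ = 1) : wedge (μ • (1 : Matrix (Fin 4) (Fin 4) F)) = 1 := by
  ext r c
  fin_cases r <;> fin_cases c <;> simp [wedge, pr₁, pr₂, Matrix.one_apply, hμ]

/-- The subgroup of scalar square roots of one has order `gcd (2, |F| - 1)`. -/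
theorem card_scalar_sq [Fintype F] {G : Type*} [Group G] (H : Subgroup G) (f : G → Matrix (Fin 4) (Fin 4) F)
    (hf : Function.Injective f) (h1 : ∀ g ∈ H, ∃ μ : F, μ * μ = 1 ∧ f g = μ • 1)
    (h2 : ∀ μ : F, μ * μ = 1 → ∃ g ∈ H, f g = μ • 1) :
    Nat.card H = Nat.gcd 2 (Fintype.card F - 1) := by
  classical
  have hcard : Nat.card {μ : F // μ * μ = 1} = Nat.gcd 2 (Fintype.card F - 1) := by
    have e : {μ : F // μ * μ = 1} ≃ (powMonoidHom 2 : Fˣ →* Fˣ).ker :=
      { toFun := fun μ => ⟨⟨μ.1, μ.1, μ.2, μ.2⟩, Units.ext (by simp [pow_two, μ.2])⟩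
        invFun := fun u => ⟨u.1.1, by
          have := congrArg Units.val (MonoidHom.mem_ker.1 u.2)
          simpa [pow_two] using this⟩
        left_inv := fun μ => rfl
        right_inv := fun u => Subtype.ext (Units.ext rfl) }
    rw [Nat.card_congr e, IsCyclic.card_powMonoidHom_ker, Cfsg.Agent.Classical.natCard_units_field,
      Nat.gcd_comm]
  rw [← hcard]
  choose μ hμ hfμ using fun g : H => h1 g.1 g.2
  refine Nat.card_congr (Equiv.ofBijective (fun g => (⟨μ g, hμ g⟩ : {μ : F // μ * μ = 1})) ⟨fun g g' h => ?_, ?_⟩)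
  · have h' : μ g = μ g' := congrArg Subtype.val h
    exact Subtype.ext (hf (by rw [hfμ g, hfμ g', h']))
  · rintro ⟨m, hm⟩
    obtain ⟨g, hg, hgm⟩ := h2 m hm
    refine ⟨⟨g, hg⟩, Subtype.ext ?_⟩
    have h0 := congrFun (congrFun ((hfμ ⟨g, hg⟩).symm.trans hgm) 0) 0
    simpa using h0

/-- The index of `Ω`, both parities at once. -/
theorem index_omega [Fintype F] {ι : Type} [Fintype ι] [DecidableEq ι] {Q : QuadraticForm F (ι → F)}
    (hQ : Q.polarBilin.Nondegenerate) (hn : 5 ≤ Fintype.card ι) :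
    (commutator (O Q)).index = 2 * Nat.gcd 2 (Fintype.card F - 1) := by
  classical
  by_cases hodd : Odd (Fintype.card F)
  · have h2 : (2 : F) ≠ 0 := two_ne_zero_of_odd hodd
    obtain ⟨d, hd⟩ := FiniteField.exists_nonsquare (F := F) (fun hch => by
      have : CharP F 2 := ringChar.of_eq hch
      exact h2 CharTwo.two_eq_zero)
    rw [index_commutator hQ h2 hd (by omega), Nat.gcd_eq_left (by have := Nat.odd_iff.1 hodd; omega)]
  · have h2 : (2 : F) = 0 := two_eq_zero_of_even hodd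
    have : CharP F 2 := CharTwo.of_one_ne_zero_of_two_eq_zero one_ne_zero h2
    have hgcd : Nat.gcd 2 (Fintype.card F - 1) = 1 := by
      rw [← Nat.coprime_iff_gcd_eq_one, Nat.coprime_two_left, Nat.odd_iff]
      have := Nat.not_odd_iff.1 hodd
      have := Fintype.one_lt_card (α := F)
      omega
    rw [index_commutator_char_two hQ (reflClosure_eq_top hQ (Or.inr (by omega))) (by omega), hgcd]

end CfsgLib.POmega
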