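import Cfsg.Agent.Lib.POmega.Forms
import Cfsg.Agent.Classical.SLBasic

/-!
Recognising `PΩ` as the central quotient of a group acting on the orthogonal space, and the facts about
`SL₂` needed for it.
-/

set_option autoImplicit false
set_option linter.unusedSectionVars false

namespace CfsgLib.POmega

open Matrix QuadraticMap CfsgLib.Orth
open scoped commutatorElement

variable {ι : Type} [Fintype ι] [DecidableEq ι] {F : Type*} [Field F] {Q : QuadraticForm F (ι → F)}
  {G : Type*} [Group G]

/-- An action by isometries as a homomorphism into `O(Q)`. -/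
def mkHom (ρ : G → (ι → F) →ₗ[F] (ι → F)) (h1 : ∀ x, ρ 1 x = x)
    (hm : ∀ g h x, ρ (g * h) x = ρ g (ρ h x)) (hq : ∀ g x, Q (ρ g x) = Q x) : G →* O Q where
  toFun g := mkO (ρ g) (ρ g⁻¹)
    (LinearMap.ext fun x => by rw [LinearMap.comp_apply, ← hm, mul_inv_cancel, h1, LinearMap.id_apply])
    (LinearMap.ext fun x => by rw [LinearMap.comp_apply, ← hm, inv_mul_cancel, h1, LinearMap.id_apply])
    (hq g)
  map_one' := ext_app fun x => by rw [app_mkO, app_one, h1]
  map_mul' g h := ext_app fun x => by rw [app_mul, app_mkO, app_mkO, app_mkO, hm]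

theorem app_mkHom (ρ : G → (ι → F) →ₗ[F] (ι → F)) (h1 : ∀ x, ρ 1 x = x)
    (hm : ∀ g h x, ρ (g * h) x = ρ g (ρ h x)) (hq : ∀ g x, Q (ρ g x) = Q x) (g : G) (x : ι → F) :
    app (mkHom ρ h1 hm hq g) x = ρ g x := LinearMap.toMatrix'_mulVec (ρ g) x

theorem mkHom_ker (ρ : G → (ι → F) →ₗ[F] (ι → F)) (h1 : ∀ x, ρ 1 x = x)
    (hm : ∀ g h x, ρ (g * h) x = ρ g (ρ h x)) (hq : ∀ g x, Q (ρ g x) = Q x) (g : G) :
    g ∈ (mkHom ρ h1 hm hq).ker ↔ ∀ x, ρ g x = x := by
  rw [MonoidHom.mem_ker]
  constructor
  · intro h x; rw [← app_mkHom ρ h1 hm hq, h, app_one]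
  · intro h; exact ext_app fun x => by rw [app_mkHom, app_one, h]

theorem central_of_perfect (hp : commutator G = ⊤) {g : G} (h : ∀ x, ⁅g, x⁆ ∈ Subgroup.center G) :
    g ∈ Subgroup.center G := by
  let f : G →* Subgroup.center G :=
    { toFun := fun x => ⟨⁅g, x⁆, h x⟩
      map_one' := Subtype.ext (by simp)
      map_mul' := fun x y => Subtype.ext (by
        show ⁅g, x * y⁆ = ⁅g, x⁆ * ⁅g, y⁆
        have hy := Subgroup.mem_center_iff.1 (h y)
        have e : ⁅g, x * y⁆ = g * x * g⁻¹ * ⁅g, y⁆ * x⁻¹ := by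
          simp only [commutatorElement_def]; group
        rw [e, hy, commutatorElement_def g x, commutatorElement_def g y]
        rw [commutatorElement_def] at hy
        have hx := hy (g * x * g⁻¹ * x⁻¹)
        rw [hx]; group) }
  rw [Subgroup.mem_center_iff]
  intro x
  have hx : x ∈ f.ker := by
    have h1 : commutator G ≤ f.ker := by
      rw [_root_.commutator_def, Subgroup.commutator_le]
      intro a _ b _
      rw [MonoidHom.mem_ker, map_commutatorElement, commutatorElement_eq_one_iff_mul_comm]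
      exact Subtype.ext (Subgroup.mem_center_iff.1 (f b).2 _)
    exact h1 (hp ▸ Subgroup.mem_top x)
  exact (commutatorElement_eq_one_iff_mul_comm.1 (congrArg Subtype.val (MonoidHom.mem_ker.1 hx))).symm

theorem range_le_omega_of_perfect (φ : G →* O Q) (hp : commutator G = ⊤) :
    φ.range ≤ commutator (O Q) := by
  rw [MonoidHom.range_eq_map, ← hp, _root_.commutator_def, Subgroup.map_commutator]
  exact Subgroup.commutator_mono le_top le_top

theorem mem_omega_of_pow [Fintype F] (g : O Q) {N : ℕ} (hg : g ^ N = 1)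
    (hN : Nat.Coprime N (commutator (O Q)).index) : g ∈ commutator (O Q) := by
  have h1 : g ^ (commutator (O Q)).index ∈ commutator (O Q) :=
    Subgroup.pow_index_mem (commutator (O Q)) g
  have h2 := congrArg (fun z : ℤ => g ^ z) (Nat.gcd_eq_gcd_ab N (commutator (O Q)).index)
  simp only [_root_.zpow_add, _root_.zpow_mul, zpow_natCast, hN, Nat.cast_one, zpow_one, hg,
    _root_.one_zpow, one_mul] at h2
  rw [h2]
  exact zpow_mem h1 _

theorem card_omega_mul [Fintype F] :
    Nat.card (commutator (O Q)) * (commutator (O Q)).index = Nat.card (O Q) :=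
  (commutator (O Q)).card_mul_index

/-- The recognition lemma. -/
theorem pomega_equiv [Fintype F] [Finite G] (φ : G →* O Q) (hle : φ.range ≤ commutator (O Q))
    (hker : φ.ker ≤ Subgroup.center G)
    (hcard : Nat.card (commutator (O Q)) * Nat.card φ.ker = Nat.card G)
    (hZ : ∀ g : G, (∀ x, ⁅g, x⁆ ∈ Subgroup.center G) → g ∈ Subgroup.center G) :
    Nonempty (Cfsg.POmega F ⇑Q ≃* G ⧸ Subgroup.center G) := by
  have h1 : Nat.card φ.ker * Nat.card φ.range = Nat.card G := by
    rw [← Subgroup.index_ker]; exact φ.ker.card_mul_index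
  have heq : φ.range = commutator (O Q) := Subgroup.eq_of_le_of_card_ge hle (le_of_eq (by
    refine Nat.eq_of_mul_eq_mul_left (show 0 < Nat.card φ.ker from Nat.card_pos) ?_
    rw [h1, mul_comm, hcard]))
  let ψ : G →* commutator (O Q) := φ.codRestrict _ fun g => hle ⟨g, rfl⟩
  have hψ : Function.Surjective ψ := fun y => by
    have hy : y.1 ∈ φ.range := by rw [heq]; exact y.2
    obtain ⟨g, hg⟩ := hy
    exact ⟨g, Subtype.ext hg⟩
  let π : G →* Cfsg.POmega F ⇑Q :=
    (QuotientGroup.mk' (Subgroup.center (commutator (O Q)))).comp ψ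
  have hπk : π.ker = Subgroup.center G := by
    ext g
    rw [MonoidHom.mem_ker]
    constructor
    · intro h
      have h' : ψ g ∈ Subgroup.center (commutator (O Q)) := (QuotientGroup.eq_one_iff _).1 h
      refine hZ g fun x => hker ?_
      rw [MonoidHom.mem_ker]
      have e : ⁅ψ g, ψ x⁆ = 1 :=
        commutatorElement_eq_one_iff_mul_comm.2 (Subgroup.mem_center_iff.1 h' _).symm
      rw [← map_commutatorElement] at e
      exact congrArg Subtype.val e
    · intro h
      refine (QuotientGroup.eq_one_iff _).2 (Subgroup.mem_center_iff.2 fun y => ?_)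
      obtain ⟨x, rfl⟩ := hψ y
      rw [← map_mul, ← map_mul, Subgroup.mem_center_iff.1 h x]
  exact ⟨((QuotientGroup.quotientMulEquivOfEq hπk.symm).trans
    (QuotientGroup.quotientKerEquivOfSurjective π
      ((QuotientGroup.mk'_surjective _).comp hψ))).symm⟩

section SLTwo

variable {K : Type*} [Field K]

theorem sl_two_centerless_quotient (g : SpecialLinearGroup (Fin 2) K)
    (h : ∀ x, ⁅g, x⁆ ∈ Subgroup.center (SpecialLinearGroup (Fin 2) K)) :
    g ∈ Subgroup.center (SpecialLinearGroup (Fin 2) K) := by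
  have step : ∀ x : SpecialLinearGroup (Fin 2) K,
      ∃ e : K, g.1 * x.1 = e • (x.1 * g.1) := fun x => by
    obtain ⟨e, -, he⟩ := Matrix.SpecialLinearGroup.mem_center_iff.1 (h x)
    refine ⟨e, ?_⟩
    have e1 : g * x = ⁅g, x⁆ * (x * g) := by rw [commutatorElement_def]; group
    calc g.1 * x.1 = (⁅g, x⁆ * (x * g)).1 := by rw [← e1]; rfl
      _ = Matrix.scalar (Fin 2) e * (x.1 * g.1) := by rw [he]; rfl
      _ = e • (x.1 * g.1) := by rw [Matrix.smul_eq_diagonal_mul]; rfl
  let U : SpecialLinearGroup (Fin 2) K := ⟨!![1, 1; 0, 1], by simp [Matrix.det_fin_two]⟩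
  let L : SpecialLinearGroup (Fin 2) K := ⟨!![1, 0; 1, 1], by simp [Matrix.det_fin_two]⟩
  have hd : g.1 0 0 * g.1 1 1 - g.1 0 1 * g.1 1 0 = 1 := by rw [← Matrix.det_fin_two]; exact g.2
  obtain ⟨e, he⟩ := step U
  obtain ⟨f, hf⟩ := step L
  have u00 := congrFun (congrFun he 0) 0
  have u01 := congrFun (congrFun he 0) 1
  have u10 := congrFun (congrFun he 1) 0
  have u11 := congrFun (congrFun he 1) 1
  have l00 := congrFun (congrFun hf 0) 0
  have l01 := congrFun (congrFun hf 0) 1
  have l10 := congrFun (congrFun hf 1) 0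
  have l11 := congrFun (congrFun hf 1) 1
  simp [U, Matrix.mul_apply, Matrix.vecMul, dotProduct, Fin.sum_univ_two] at u00 u01 u10 u11
  simp [L, Matrix.mul_apply, Matrix.vecMul, dotProduct, Fin.sum_univ_two] at l00 l01 l10 l11
  have h10 : g.1 1 0 = 0 ∧ g.1 0 0 = g.1 1 1 := by
    by_cases he1 : e = 1
    · subst he1
      exact ⟨by linear_combination -u00, by linear_combination u01⟩
    · have hne : (1 : K) - e ≠ 0 := sub_ne_zero.2 (Ne.symm he1)
      have h10 : g.1 1 0 = 0 :=
        (mul_eq_zero.1 (show (1 - e) * g.1 1 0 = 0 by linear_combination u10)).resolve_left hne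
      have h00 : g.1 0 0 = 0 :=
        (mul_eq_zero.1 (show (1 - e) * g.1 0 0 = 0 by linear_combination u00 + e * h10)).resolve_left hne
      rw [h10, h00] at hd
      simp at hd
  have h01 : g.1 0 1 = 0 := by
    by_cases hf1 : f = 1
    · subst hf1; linear_combination l00
    · have hne : (1 : K) - f ≠ 0 := sub_ne_zero.2 (Ne.symm hf1)
      exact (mul_eq_zero.1 (show (1 - f) * g.1 0 1 = 0 by linear_combination l01)).resolve_left hne
  refine Matrix.SpecialLinearGroup.mem_center_iff.2 ⟨g.1 0 0, ?_, ?_⟩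
  · rw [Fintype.card_fin]
    linear_combination hd + g.1 0 0 * h10.2 + g.1 0 1 * h10.1
  · ext i j
    fin_cases i <;> fin_cases j <;> simp [h10.1, h01, ← h10.2]

theorem sl_two_center_iff (g : SpecialLinearGroup (Fin 2) K) :
    g ∈ Subgroup.center (SpecialLinearGroup (Fin 2) K) ↔ g.1 0 1 = 0 ∧ g.1 1 0 = 0 ∧ g.1 0 0 = g.1 1 1 := by
  rw [Matrix.SpecialLinearGroup.mem_center_iff]
  constructor
  · rintro ⟨r, -, hr⟩
    rw [← hr]
    simp
  · rintro ⟨h1, h2, h3⟩
    refine ⟨g.1 0 0, ?_, ?_⟩
    · have hd : g.1 0 0 * g.1 1 1 - g.1 0 1 * g.1 1 0 = 1 := by rw [← Matrix.det_fin_two]; exact g.2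
      rw [Fintype.card_fin]
      linear_combination hd + g.1 0 0 * h3 + g.1 0 1 * h2
    · ext i j
      fin_cases i <;> fin_cases j <;> simp [h1, h2, ← h3]

theorem card_sl_two [Fintype K] :
    Nat.card (SpecialLinearGroup (Fin 2) K) = Fintype.card K * (Fintype.card K ^ 2 - 1) := by
  have h := Cfsg.Agent.Classical.card_sl_mul (F := K) 2 (by norm_num)
  have h1 : 1 < Fintype.card K := Fintype.one_lt_card
  rw [Fin.prod_univ_two] at h
  simp only [Fin.val_zero, Fin.val_one, pow_zero, pow_one] at h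
  refine Nat.eq_of_mul_eq_mul_left (show 0 < Fintype.card K - 1 by omega) (h.trans ?_)
  rw [show Fintype.card K ^ 2 - Fintype.card K = Fintype.card K * (Fintype.card K - 1) by
    rw [Nat.mul_sub, mul_one, pow_two]]
  ring

theorem card_center_sl_two [Fintype K] :
    Nat.card (Subgroup.center (SpecialLinearGroup (Fin 2) K)) = Nat.gcd 2 (Fintype.card K - 1) :=
  Cfsg.Agent.Classical.card_center_sl 2 (by norm_num)

theorem transvection_pow_card [Fintype K] {i j : Fin 2} (hij : i ≠ j) (c : K) :
    SpecialLinearGroup.transvection hij c ^ Fintype.card K = 1 := by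
  have hpow : ∀ k : ℕ, SpecialLinearGroup.transvection hij c ^ k =
      SpecialLinearGroup.transvection hij ((k : K) * c) := fun k => by
    induction k with
    | zero => refine Subtype.ext ?_; simp [SpecialLinearGroup.transvection_coe]
    | succ k ih => rw [pow_succ, ih, ← SpecialLinearGroup.transvection_add]; push_cast; ring_nf
  rw [hpow, Nat.cast_card_eq_zero K, zero_mul]
  refine Subtype.ext ?_
  simp [SpecialLinearGroup.transvection_coe]

end SLTwo

end CfsgLib.POmega
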