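import Cfsg.Agent.Lib.Orth.Siegel
import Cfsg.Agent.Lib.Orth.CharTwo
import Cfsg.Agent.Lib.Forms.Witt

/-!
`Ω` of a finite orthogonal space: values on orthogonal complements, transitivity through reflections,
generation by Eichler transformations (any characteristic), perfectness and the centre.
-/

set_option autoImplicit false
set_option linter.unusedSectionVars false

namespace CfsgLib.POmega

open Matrix QuadraticMap CfsgLib.Orth

variable {ι : Type} [Fintype ι] [DecidableEq ι] {F : Type*} [Field F] {Q : QuadraticForm F (ι → F)}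

theorem app_mul_inv_cancel (g : O Q) (x : ι → F) : app g (app g⁻¹ x) = x := app_app_inv g x

/-- The generators: all Eichler transformations. -/
noncomputable def eichGroup (Q : QuadraticForm F (ι → F)) : Subgroup (O Q) :=
  Subgroup.closure {g | ∃ u a : ι → F, Q u = 0 ∧ polar Q u a = 0 ∧ g = eich Q u a}

theorem eich_mem_eichGroup {u a : ι → F} (hu : Q u = 0) (ha : polar Q u a = 0) :
    eich Q u a ∈ eichGroup Q := Subgroup.subset_closure ⟨u, a, hu, ha, rfl⟩

theorem eich_smul {u a : ι → F} (hu : Q u = 0) (ha : polar Q u a = 0) (t : F) :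
    eich Q (t • u) a = eich Q u (t • a) :=
  ext_app fun x => by
    rw [app_eich (by rw [QuadraticMap.map_smul, hu, smul_zero]) (by rw [polar_smul_left, ha, smul_zero]),
      app_eich hu (by rw [polar_smul_right, ha, smul_zero])]
    simp only [polar_smul_right, QuadraticMap.map_smul, smul_eq_mul]
    module

theorem eichGroup_normal : (eichGroup Q).Normal where
  conj_mem n hn g := by
    suffices eichGroup Q ≤ (eichGroup Q).comap (MulAut.conj g).toMonoidHom from this hn
    refine (Subgroup.closure_le _).2 ?_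
    rintro _ ⟨u, a, hu, ha, rfl⟩
    show g * eich Q u a * g⁻¹ ∈ eichGroup Q
    rw [eich_conj hu ha]
    exact eich_mem_eichGroup (by rw [Q_app, hu]) (by rw [polar_app, ha])

theorem eich_zero_right {u : ι → F} (hu : Q u = 0) : eich Q u 0 = 1 := by
  rw [← zero_smul F u, eich_smul_self hu]

theorem eich_neg_inv {u a : ι → F} (hu : Q u = 0) (ha : polar Q u a = 0) :
    (eich Q u a)⁻¹ = eich Q u (-a) := by
  refine inv_eq_of_mul_eq_one_right ?_
  rw [eich_add hu ha (by rw [polar_neg_right, ha, neg_zero]), add_neg_cancel, eich_zero_right hu]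

/-- Eichler transformations only depend on `a` modulo `u`. -/
theorem eich_add_smul {u a : ι → F} (hu : Q u = 0) (ha : polar Q u a = 0) (t : F) :
    eich Q u (a + t • u) = eich Q u a := by
  have hu2 : polar Q u u = 0 := by rw [polar_self', hu, mul_zero]
  rw [← eich_add hu ha (by rw [polar_smul_right, hu2, smul_zero]), eich_smul_self hu, mul_one]

variable (hQ : Q.polarBilin.Nondegenerate)
include hQ

theorem exists_O_map {k : ℕ} (x y : Fin k → ι → F) (hx : LinearIndependent F x)
    (hy : LinearIndependent F y) (hq : ∀ i, Q (x i) = Q (y i))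
    (hp : ∀ i j, polar Q (x i) (x j) = polar Q (y i) (y j)) : ∃ g : O Q, ∀ i, app g (x i) = y i := by
  obtain ⟨e, he, hex⟩ := CfsgLib.Forms.quad_witt_family Q hQ x y hx hy hq hp
  refine ⟨mkO (e : (ι → F) →ₗ[F] (ι → F)) (e.symm : (ι → F) →ₗ[F] (ι → F))
    (LinearMap.ext fun v => e.apply_symm_apply v) (LinearMap.ext fun v => e.symm_apply_apply v) he, fun i => ?_⟩
  rw [app_mkO]; exact hex i

/-- A partner of a singular vector inside a given constraint. -/
theorem exists_pair {k : ℕ} (y : Fin k → ι → F) {u : ι → F} (hu : Q u = 0)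
    (hyu : ∀ i, polar Q (y i) u = 0) (hspan : u ∉ Submodule.span F (Set.range y)) :
    ∃ p, (∀ i, polar Q (y i) p = 0) ∧ polar Q u p = 1 ∧ Q p = 0 := by
  obtain ⟨p, hp, hp1⟩ := CfsgLib.Forms.exists_orth_pair_one (σ := RingHom.id F) Function.surjective_id
    Q.polarBilin hQ.1 y u hspan
  have hp' : ∀ i, polar Q (y i) p = 0 := hp
  have hp1' : polar Q u p = 1 := hp1
  have hu2 : polar Q u u = 0 := by rw [polar_self', hu, mul_zero]
  refine ⟨p + (-Q p) • u, fun i => by simp [polar_add_right, polar_smul_right, hp' i, hyu i],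
    by simp [polar_add_right, polar_smul_right, hp1', hu2], ?_⟩
  simp [QuadraticMap.map_add ⇑Q, QuadraticMap.map_smul, polar_smul_right, polar_comm (f := ⇑Q) p u,
    hp1', hu]

theorem exists_partner {u : ι → F} (hu : Q u = 0) (hu0 : u ≠ 0) : ∃ p, polar Q u p = 1 ∧ Q p = 0 := by
  obtain ⟨p, -, hp⟩ := exists_pair hQ (Fin.elim0 : Fin 0 → ι → F) hu (fun i => i.elim0)
    (by simpa using hu0)
  exact ⟨p, hp⟩

/-- An anisotropic vector orthogonal to few vectors. -/
theorem exists_aniso_perp {k : ℕ} (x : Fin k → ι → F) (hn : 2 * k < Fintype.card ι) :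
    ∃ a, (∀ i, polar Q (x i) a = 0) ∧ Q a ≠ 0 := by
  let W := LinearMap.BilinForm.orthogonal Q.polarBilin (Submodule.span F (Set.range x))
  by_contra hc
  push Not at hc
  have hW : ∀ w ∈ W, Q w = 0 := fun w hw =>
    hc w fun i => LinearMap.BilinForm.mem_orthogonal_iff.1 hw (x i) (Submodule.subset_span ⟨i, rfl⟩)
  have h1 := two_finrank_le hQ hW
  rw [LinearMap.BilinForm.finrank_orthogonal hQ, Module.finrank_fintype_fun_eq_card] at h1
  have h2 := finrank_range_le_card (R := F) x
  rw [Set.finrank, Fintype.card_fin] at h2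
  omega

omit hQ in
theorem exists_singular_mem [Fintype F] (W : Submodule F (ι → F)) (hW : 3 ≤ Module.finrank F W) :
    ∃ w ∈ W, w ≠ 0 ∧ Q w = 0 := by
  classical
  have step : ∀ {k : ℕ} (x : Fin k → ι → F), k < 3 →
      ∃ w ∈ W, w ≠ 0 ∧ ∀ i, polar Q (x i) w = 0 := by
    intro k x hk
    let L : W →ₗ[F] (Fin k → F) := (LinearMap.pi fun i => Q.polarBilin (x i)).comp W.subtype
    have hker : LinearMap.ker L ≠ ⊥ := by
      intro h
      have := LinearMap.finrank_le_finrank_of_injective (LinearMap.ker_eq_bot.mp h)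
      rw [Module.finrank_fin_fun] at this
      omega
    obtain ⟨w, hw, hw0⟩ := Submodule.exists_mem_ne_zero_of_ne_bot hker
    exact ⟨w.1, w.2, fun h => hw0 (Subtype.ext h), fun i => congrFun hw i⟩
  by_contra hc
  push Not at hc
  obtain ⟨a, ha, ha0, -⟩ := step (Fin.elim0 : Fin 0 → ι → F) (by omega)
  have hQa := hc a ha ha0
  by_cases h2 : (2 : F) = 0
  · have : CharP F 2 := CharTwo.of_one_ne_zero_of_two_eq_zero one_ne_zero h2
    obtain ⟨b, hb, hba, hb0⟩ : ∃ b ∈ W, b ∉ Submodule.span F {a} ∧ polar Q a b = 0 := by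
      let L : W →ₗ[F] F := (Q.polarBilin a).comp W.subtype
      have h := LinearMap.finrank_range_add_finrank_ker L
      have hr : Module.finrank F (LinearMap.range L) ≤ 1 := by
        simpa using Submodule.finrank_le (LinearMap.range L)
      by_contra hno
      push Not at hno
      have hle : (LinearMap.ker L).map W.subtype ≤ Submodule.span F {a} := by
        rintro _ ⟨b, hb, rfl⟩
        by_contra hb'
        exact hno b.1 b.2 hb' hb
      have := Submodule.finrank_mono hle
      rw [Submodule.finrank_map_subtype_eq, finrank_span_singleton ha0] at this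
      omega
    obtain ⟨t, ht⟩ := FiniteField.isSquare_of_char_two (ringChar.eq_iff.2 inferInstance) (Q b / Q a)
    refine hc (t • a + b) (add_mem (W.smul_mem t ha) hb) (fun h => hba ?_) ?_
    · rw [eq_neg_of_add_eq_zero_right h]
      exact neg_mem (Submodule.smul_mem _ t (Submodule.mem_span_singleton_self a))
    · rw [QuadraticMap.map_add ⇑Q, QuadraticMap.map_smul, polar_smul_left, hb0, smul_zero, add_zero,
        smul_eq_mul, ← ht, div_mul_cancel₀ _ hQa]
      linear_combination Q b * h2
  · obtain ⟨b, hb, hb0, hab⟩ := step ![a] (by omega)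
    have hab' : polar Q a b = 0 := hab 0
    obtain ⟨c, hcW, hc0, hperp⟩ := step ![a, b] (by omega)
    have hac : polar Q a c = 0 := hperp 0
    have hbc : polar Q b c = 0 := hperp 1
    obtain ⟨x, y, hxy⟩ := exists_binary h2 hQa (hc b hb hb0) (-Q c)
    have hsum : polar Q c (x • a + y • b + c) = 2 * Q c := by
      simp only [polar_add_right, polar_smul_right, polar_comm (f := ⇑Q) c a, hac,
        polar_comm (f := ⇑Q) c b, hbc, polar_self', smul_zero, zero_add]
    refine hc (x • a + y • b + c) (add_mem (add_mem (W.smul_mem x ha) (W.smul_mem y hb)) hcW)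
      (fun h => ?_) ?_
    · rw [h, polar_zero_right] at hsum
      exact mul_ne_zero h2 (hc c hcW hc0) hsum.symm
    · simp only [QuadraticMap.map_add ⇑Q, QuadraticMap.map_smul, polar_add_left, polar_smul_left,
        polar_smul_right, hab', hac, hbc, smul_eq_mul]
      linear_combination hxy

variable [Fintype F]

/-- The orthogonal complement of few vectors takes every non-zero value. -/
theorem exists_value_perp {k : ℕ} (x : Fin k → ι → F) (hn : 2 * (k + 1) < Fintype.card ι) {c : F}
    (hc : c ≠ 0) : ∃ a, (∀ i, polar Q (x i) a = 0) ∧ Q a = c := by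
  classical
  obtain ⟨a, ha, hQa⟩ := exists_aniso_perp hQ x (by omega)
  by_cases h2 : (2 : F) = 0
  · have : CharP F 2 := CharTwo.of_one_ne_zero_of_two_eq_zero one_ne_zero h2
    obtain ⟨t, ht⟩ := FiniteField.isSquare_of_char_two (ringChar.eq_iff.2 inferInstance) (c / Q a)
    refine ⟨t • a, fun i => by simp [polar_smul_right, ha i], ?_⟩
    rw [QuadraticMap.map_smul, smul_eq_mul, ← ht, div_mul_cancel₀ _ hQa]
  · obtain ⟨b, hb, hQb⟩ := exists_aniso_perp hQ (Fin.snoc x a : Fin (k + 1) → ι → F) hn
    obtain ⟨s, t, hst⟩ := exists_binary h2 hQa hQb c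
    have hab : polar Q a b = 0 := by simpa using hb (Fin.last k)
    refine ⟨s • a + t • b, fun i => ?_, ?_⟩
    · have hbi : polar Q (x i) b = 0 := by simpa using hb i.castSucc
      simp [polar_add_right, polar_smul_right, ha i, hbi]
    · simp only [QuadraticMap.map_add ⇑Q, QuadraticMap.map_smul, polar_smul_left, polar_smul_right,
        hab, smul_eq_mul]
      linear_combination hst

theorem gen_cond (hn : 5 ≤ Fintype.card ι) : (∃ p : F, p ≠ 0 ∧ p ≠ 1) ∨ Fintype.card ι ≠ 4 :=
  Or.inr (by omega)

theorem two_eq_zero_pair_mem (h2 : (2 : F) = 0) (hn : 5 ≤ Fintype.card ι) {a b : ι → F} (ha : Q a ≠ 0)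
    (hb : Q b ≠ 0) : refl Q a * refl Q b ∈ eichGroup Q := by
  classical
  have : CharP F 2 := CharTwo.of_one_ne_zero_of_two_eq_zero one_ne_zero h2
  have norm1 : ∀ x : ι → F, Q x ≠ 0 → ∃ y, Q y = 1 ∧ refl Q y = refl Q x := fun x hx => by
    obtain ⟨t, ht⟩ := FiniteField.isSquare_of_char_two (ringChar.eq_iff.2 inferInstance) (Q x)⁻¹
    have ht0 : t ≠ 0 := fun h => inv_ne_zero hx (by rw [ht, h, mul_zero])
    exact ⟨t • x, by rw [QuadraticMap.map_smul, smul_eq_mul, ← ht, inv_mul_cancel₀ hx], refl_smul ht0 x⟩
  have adj : ∀ x y : ι → F, Q x = 1 → Q y = 1 → polar Q x y = 0 → refl Q x * refl Q y ∈ eichGroup Q := by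
    intro x y hx hy hxy
    have hz : Q (y - x) = 0 := by
      rw [sub_eq_add_neg, QuadraticMap.map_add ⇑Q, QuadraticMap.map_neg, polar_neg_right, hx, hy,
        polar_comm, hxy]
      linear_combination h2
    have hzx : polar Q (y - x) x = 0 := by
      rw [polar_sub_left, polar_comm, hxy, polar_self', h2, zero_mul, sub_zero]
    have h := eich_eq_refl_mul hz hzx (by rw [hx]; exact one_ne_zero)
    rw [hx, one_smul, add_sub_cancel] at h
    exact h ▸ eich_mem_eichGroup hz hzx
  obtain ⟨x, hx, hxa⟩ := norm1 a ha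
  obtain ⟨y, hy, hyb⟩ := norm1 b hb
  obtain ⟨z₀, hz₀, hz₀Q⟩ := exists_aniso_perp hQ ![x, y] (by omega)
  obtain ⟨t, ht⟩ := FiniteField.isSquare_of_char_two (ringChar.eq_iff.2 inferInstance) (Q z₀)⁻¹
  have hz : Q (t • z₀) = 1 := by rw [QuadraticMap.map_smul, smul_eq_mul, ← ht, inv_mul_cancel₀ hz₀Q]
  have hxz : polar Q x z₀ = 0 := hz₀ 0
  have hyz : polar Q y z₀ = 0 := hz₀ 1
  have := mul_mem (adj x (t • z₀) hx hz (by simp [polar_smul_right, hxz]))
    (adj (t • z₀) y hz hy (by simp [polar_smul_left, polar_comm (f := ⇑Q) z₀ y, hyz]))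
  rw [mul_assoc, ← mul_assoc (refl Q (t • z₀)), refl_mul_self, one_mul] at this
  rwa [← hxa, ← hyb]

theorem eich_mem_commutator (hn : 5 ≤ Fintype.card ι) {u a : ι → F} (hu : Q u = 0)
    (ha : polar Q u a = 0) : eich Q u a ∈ commutator (O Q) := by
  classical
  by_cases h2 : (2 : F) = 0
  · have : CharP F 2 := CharTwo.of_one_ne_zero_of_two_eq_zero one_ne_zero h2
    rw [commutator_eq_ker_dickson hQ (reflClosure_eq_top hQ (gen_cond hQ hn)), MonoidHom.mem_ker]
    set D := dicksonHom hQ (reflClosure_eq_top hQ (gen_cond hQ hn))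
    have hns : ∀ b, polar Q u b = 0 → Q b ≠ 0 → D (eich Q u b) = 1 := fun b hb hQb => by
      rw [eich_eq_refl_mul hu hb hQb, map_mul, dicksonHom_refl hQ _ hQb, dicksonHom_refl hQ _ (by
        have hbu : polar Q b u = 0 := by rw [polar_comm, hb]
        simpa [QuadraticMap.map_add ⇑Q, QuadraticMap.map_smul, polar_smul_right, hu, hbu] using hQb)]
      decide
    by_cases hQa : Q a = 0
    · obtain ⟨b, hb, hQb⟩ := exists_aniso_perp hQ ![u, a] (by omega)
      have hub : polar Q u b = 0 := hb 0
      have hab : polar Q a b = 0 := hb 1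
      have hub' : polar Q u (a - b) = 0 := by rw [polar_sub_right, ha, hub, sub_zero]
      rw [← add_sub_cancel b a, ← eich_add hu hub hub', map_mul, hns b hub hQb, hns _ hub' (by
        simpa [sub_eq_add_neg, QuadraticMap.map_add ⇑Q, QuadraticMap.map_neg, polar_neg_right, hQa, hab]
          using hQb), mul_one]
    · exact hns a ha hQa
  · rw [commutator_eq_siegelClosure hQ h2 hn]
    exact eich_mem_siegelClosure hQ h2 hn hu ha

/-- `Ω` is generated by the Eichler transformations. -/
theorem commutator_eq_eichGroup (hn : 5 ≤ Fintype.card ι) : commutator (O Q) = eichGroup Q := by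
  classical
  refine le_antisymm ?_ ((Subgroup.closure_le _).2 ?_)
  · by_cases h2 : (2 : F) = 0
    · have : CharP F 2 := CharTwo.of_one_ne_zero_of_two_eq_zero one_ne_zero h2
      have hgen := reflClosure_eq_top hQ (gen_cond hQ hn)
      obtain ⟨v, hv⟩ := exists_anisotropic hQ (by omega)
      have hN : eichGroup Q ≤ commutator (O Q) := (Subgroup.closure_le _).2 (by
        rintro _ ⟨u, a, hu, ha, rfl⟩; exact eich_mem_commutator hQ hn hu ha)
      have := eichGroup_normal (Q := Q)
      -- every element is in the group or in one further coset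
      have key : ∀ g : O Q, g ∈ eichGroup Q ∨ refl Q v * g ∈ eichGroup Q := by
        intro g
        have hg : g ∈ reflClosure Q := by rw [hgen]; trivial
        have stepr : ∀ (w : ι → F) (y : O Q), (y ∈ eichGroup Q ∨ refl Q v * y ∈ eichGroup Q) →
            (refl Q w * y ∈ eichGroup Q ∨ refl Q v * (refl Q w * y) ∈ eichGroup Q) := by
          intro w y hy
          by_cases hw : Q w = 0
          · rwa [refl_eq_one hw, one_mul]
          rcases hy with hy | hy
          · exact Or.inr (by rw [← mul_assoc]; exact mul_mem (two_eq_zero_pair_mem hQ h2 hn hv hw) hy)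
          · refine Or.inl ?_
            have h1 := mul_mem (two_eq_zero_pair_mem hQ h2 hn hw hv) hy
            rwa [mul_assoc, ← mul_assoc (refl Q v), refl_mul_self, one_mul] at h1
        induction hg using Subgroup.closure_induction_left with
        | one => exact Or.inl (one_mem _)
        | mul_left x hx y _ ih => obtain ⟨w, rfl⟩ := hx; exact stepr w y ih
        | inv_mul_cancel x hx y _ ih => obtain ⟨w, rfl⟩ := hx; rw [refl_inv]; exact stepr w y ih
      intro g hg
      rcases key g with h | h
      · exact h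
      · exfalso
        have h1 := mul_mem (hN h) (inv_mem hg)
        rw [mul_inv_cancel_right, commutator_eq_ker_dickson hQ hgen, MonoidHom.mem_ker,
          dicksonHom_refl hQ hgen hv] at h1
        exact absurd h1 (by decide)
    · rw [commutator_eq_siegelClosure hQ h2 hn]
      refine (Subgroup.closure_le _).2 ?_
      rintro _ ⟨u, v, c, hu, -, huv, rfl⟩
      exact eich_mem_eichGroup hu (by rw [polar_smul_right, huv, smul_zero])
  · rintro _ ⟨u, a, hu, ha, rfl⟩
    exact eich_mem_commutator hQ hn hu ha

/-- `O = Ω · Stab(x)` when the complement of `x` takes all values. -/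
theorem omega_agree {k : ℕ} (x : Fin k → ι → F) (hn : 2 * (k + 1) < Fintype.card ι)
    (hn5 : 5 ≤ Fintype.card ι) (g : O Q) :
    ∃ h ∈ commutator (O Q), ∀ i, app h (x i) = app g (x i) := by
  classical
  obtain ⟨a, ha, hQa⟩ := exists_value_perp hQ x hn (c := (1 : F)) one_ne_zero
  have hfix : ∀ b, (∀ i, polar Q (x i) b = 0) → ∀ i, app (refl Q b) (x i) = x i := fun b hb i =>
    app_refl_of_ortho (hb i)
  by_cases h2 : (2 : F) = 0
  · have : CharP F 2 := CharTwo.of_one_ne_zero_of_two_eq_zero one_ne_zero h2
    have hgen := reflClosure_eq_top hQ (gen_cond hQ hn5)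
    rw [commutator_eq_ker_dickson hQ hgen]
    rcases Int.units_eq_one_or (dicksonHom hQ hgen g) with h | h
    · exact ⟨g, MonoidHom.mem_ker.mpr h, fun _ => rfl⟩
    · refine ⟨g * refl Q a, MonoidHom.mem_ker.mpr ?_, fun i => by rw [app_mul, hfix a ha]⟩
      rw [map_mul, h, dicksonHom_refl hQ hgen (by rw [hQa]; exact one_ne_zero)]
      decide
  · obtain ⟨d, hd⟩ := FiniteField.exists_nonsquare (F := F) (fun hch => by
      have : CharP F 2 := ringChar.of_eq hch
      exact h2 CharTwo.two_eq_zero)
    obtain ⟨b, hb, hQb⟩ := exists_value_perp hQ x hn (fun h : d = 0 => hd (h ▸ IsSquare.zero))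
    rw [CfsgLib.Orth.commutator_eq hQ h2 hd]
    have ca : chiPair Q d (refl Q a) = (-1, 1) := by
      rw [chiPair_refl h2 hd (by rw [hQa]; exact one_ne_zero), hQa, if_pos IsSquare.one]
    have cb : chiPair Q d (refl Q b) = (1, -1) := by
      rw [chiPair_refl h2 hd (by rw [hQb]; exact fun h : d = 0 => hd (h ▸ IsSquare.zero)), hQb, if_neg hd]
    rcases Int.units_eq_one_or (chiPair Q d g).1 with h | h <;>
      rcases Int.units_eq_one_or (chiPair Q d g).2 with h' | h'
    · exact ⟨g, MonoidHom.mem_ker.mpr (Prod.ext h h'), fun _ => rfl⟩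
    · refine ⟨g * refl Q b, MonoidHom.mem_ker.mpr ?_, fun i => by rw [app_mul, hfix b hb]⟩
      rw [map_mul, cb]; exact Prod.ext (by simp [h]) (by simp [h'])
    · refine ⟨g * refl Q a, MonoidHom.mem_ker.mpr ?_, fun i => by rw [app_mul, hfix a ha]⟩
      rw [map_mul, ca]; exact Prod.ext (by simp [h]) (by simp [h'])
    · refine ⟨g * (refl Q a * refl Q b), MonoidHom.mem_ker.mpr ?_,
        fun i => by rw [app_mul, app_mul, hfix b hb, hfix a ha]⟩
      rw [map_mul, map_mul, ca, cb]; exact Prod.ext (by simp [h]) (by simp [h'])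

open scoped commutatorElement in
/-- `Ω` is perfect in dimension at least six. -/
theorem omega_perfect (hn : 6 ≤ Fintype.card ι) :
    commutator (commutator (O Q)) = ⊤ := by
  classical
  have hgen := commutator_eq_eichGroup hQ (by omega : 5 ≤ Fintype.card ι)
  -- the commutator of `eich w c` and `eich u b`
  have comm : ∀ {u w c b : ι → F}, Q u = 0 → Q w = 0 → polar Q u w = 0 → polar Q u c = 0 →
      polar Q w c = 0 → polar Q u b = 0 → polar Q b w = 1 →
      eich Q u (c + (-(polar Q b c) - Q c) • w) ∈ ⁅commutator (O Q), commutator (O Q)⁆ := by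
    intro u w c b hu hw huw huc hwc hub hbw
    have hh : app (eich Q w c) u = u := by rw [app_eich hw hwc, huw, huc]; simp
    have hb : app (eich Q w c) b = b + (c + (-(polar Q b c) - Q c) • w) := by
      rw [app_eich hw hwc, hbw]; simp; abel
    have hub' : polar Q u (b + (c + (-(polar Q b c) - Q c) • w)) = 0 := by
      simp [polar_add_right, polar_smul_right, hub, huc, huw]
    have e := Subgroup.commutator_mem_commutator
      (eich_mem_commutator hQ (by omega) hw hwc) (eich_mem_commutator hQ (by omega) hu hub)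
    rwa [commutatorElement_def, eich_conj hu hub, hh, hb, eich_neg_inv hu hub,
      eich_add hu hub' (by rw [polar_neg_right, hub, neg_zero]), add_neg_cancel_comm] at e
  -- each Eichler transformation is in the derived group
  have main : ∀ {u x : ι → F}, Q u = 0 → polar Q u x = 0 →
      eich Q u x ∈ ⁅commutator (O Q), commutator (O Q)⁆ := by
    intro u x hu hx
    by_cases hu0 : u = 0
    · subst hu0; rw [eich_zero_left]; exact one_mem _
    obtain ⟨v, huv, -⟩ := exists_partner hQ hu hu0
    let W := LinearMap.BilinForm.orthogonal Q.polarBilin (Submodule.span F (Set.range ![u, v, x]))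
    have hW : 3 ≤ Module.finrank F W := by
      rw [LinearMap.BilinForm.finrank_orthogonal hQ, Module.finrank_fintype_fun_eq_card]
      have := finrank_range_le_card (R := F) ![u, v, x]
      rw [Set.finrank, Fintype.card_fin] at this
      omega
    obtain ⟨w, hwW, hw0, hw⟩ := exists_singular_mem (Q := Q) W hW
    have hwall : ∀ i, polar Q (![u, v, x] i) w = 0 := fun i =>
      LinearMap.BilinForm.mem_orthogonal_iff.1 hwW _ (Submodule.subset_span ⟨i, rfl⟩)
    have huw : polar Q u w = 0 := hwall 0
    have hvw : polar Q v w = 0 := hwall 1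
    have hxw : polar Q x w = 0 := hwall 2
    have hspan : w ∉ Submodule.span F (Set.range ![u]) := by
      rw [Matrix.range_cons, Matrix.range_empty, Set.union_empty, Submodule.mem_span_singleton]
      rintro ⟨t, rfl⟩
      rw [polar_smul_right, polar_comm, huv, smul_eq_mul, mul_one] at hvw
      exact hw0 (by rw [hvw, zero_smul])
    obtain ⟨b, hb, hbw, -⟩ := exists_pair hQ ![u] hw (fun i => by fin_cases i; exact huw) hspan
    have hub : polar Q u b = 0 := hb 0
    have hbw' : polar Q b w = 1 := by rw [polar_comm, hbw]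
    have hwx : polar Q w x = 0 := by rw [polar_comm, hxw]
    have hxw' : polar Q w w = 0 := by rw [polar_self', hw, mul_zero]
    have h1 := comm hu hw huw hx hwx hub hbw'
    -- the multiples of `w`
    have h0 : ∀ t : F, eich Q u (t • w) ∈ ⁅commutator (O Q), commutator (O Q)⁆ := by
      intro t
      obtain ⟨c, hc, hQc⟩ := exists_aniso_perp hQ ![u, w] (by omega)
      have huc : polar Q u c = 0 := hc 0
      have hwc : polar Q w c = 0 := hc 1
      have hcspan : c ∉ Submodule.span F (Set.range ![u, w]) := by
        rw [Matrix.range_cons, Matrix.range_cons, Matrix.range_empty, Set.union_empty,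
          Set.singleton_union, Submodule.mem_span_pair]
        rintro ⟨p, r, rfl⟩
        simp [QuadraticMap.map_add ⇑Q, QuadraticMap.map_smul, polar_smul_left, polar_smul_right,
          hu, hw, huw] at hQc
      obtain ⟨z, hz, hcz⟩ := CfsgLib.Forms.exists_orth_pair_one (σ := RingHom.id F)
        Function.surjective_id Q.polarBilin hQ.1 ![u, w] c hcspan
      have huz : polar Q u z = 0 := hz 0
      have hzw : polar Q z w = 0 := by rw [polar_comm]; exact hz 1
      have hzc : polar Q z c = 1 := by rw [polar_comm]; exact hcz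
      have hub2 : polar Q u (b + t • z) = 0 := by simp [polar_add_right, polar_smul_right, hub, huz]
      have e1 := comm hu hw huw huc hwc hub hbw'
      have e2 := comm hu hw huw huc hwc hub2
        (by simp [polar_add_left, polar_smul_left, hbw', hzw])
      rw [polar_add_left, polar_smul_left, hzc, smul_eq_mul, mul_one] at e2
      have hu1 : polar Q u (c + (-(polar Q b c + t) - Q c) • w) = 0 := by
        simp [polar_add_right, polar_smul_right, huc, huw]
      have hu2 : polar Q u (c + (-(polar Q b c) - Q c) • w) = 0 := by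
        simp [polar_add_right, polar_smul_right, huc, huw]
      have e3 := mul_mem e1 (inv_mem e2)
      rwa [eich_neg_inv hu hu1, eich_add hu hu2 (by rw [polar_neg_right, hu1, neg_zero]),
        show c + (-(polar Q b c) - Q c) • w + -(c + (-(polar Q b c + t) - Q c) • w) = t • w by module] at e3
    have huw' : polar Q u ((-(-(polar Q b x) - Q x)) • w) = 0 := by
      rw [polar_smul_right, huw, smul_zero]
    have h2 := mul_mem h1 (h0 (-(-(polar Q b x) - Q x)))
    rw [eich_add hu (by simp [polar_add_right, polar_smul_right, hx, huw]) huw', add_assoc, ← add_smul,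
      add_neg_cancel, zero_smul, add_zero] at h2
    exact h2
  have hle : commutator (O Q) ≤ ⁅commutator (O Q), commutator (O Q)⁆ := by
    conv_lhs => rw [hgen]
    refine (Subgroup.closure_le _).2 ?_
    rintro _ ⟨u, a, hu, ha, rfl⟩
    exact main hu ha
  apply Subgroup.map_injective (commutator (O Q)).subtype_injective
  rw [show commutator ↥(commutator (O Q)) = ⁅(⊤ : Subgroup (commutator (O Q))), ⊤⁆ from rfl,
    Subgroup.map_commutator, ← MonoidHom.range_eq_map, Subgroup.range_subtype]
  exact le_antisymm (Subgroup.commutator_le_self _) hle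

end CfsgLib.POmega
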